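import Mathlib
import Cfsg.Agent.H248.Dich
import Cfsg.Agent.H248.TitsRGD
import Cfsg.Agent.Nodes.HasRGD
set_option linter.all false

/-!
# `Dich p G` for groups with a root group datum (helper248)
-/

set_option autoImplicit false
set_option linter.unusedSectionVars false

namespace Cfsg.Agent.H248.Ovg

open CoxeterSystem Cfsg.Agent.ChevalleyStructure.CoxeterGeom Cfsg.Agent.Tits.Roots Cfsg.Agent.Tits.Core
  Cfsg.Agent.Nodes.Reps Cfsg.Agent.Nodes.BNOf Cfsg.Agent.Nodes.Bruhat Cfsg.Agent.Nodes.LeviDec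

variable {I W Y : Type*} [Fintype I] [DecidableEq I] [Group W] [Group Y] {M : CoxeterMatrix I}
  {cs : CoxeterSystem M W} {A : I → I → ℤ} {h : IsCartan M A} {p : ℕ} {T : Subgroup Y} {n : I → Y}
  {X : (I → ℤ) → Subgroup Y}

theorem dich_of_rgd (R : RGD cs h p T n X) [Finite W] [Finite Y] [Fact p.Prime]
    (hG : Nodes.RGDLib.G1 cs h X = ⊤) : Dich p Y := by
  have hGG : GG cs h T X = ⊤ := by
    rw [eq_top_iff, ← hG]
    exact le_sup_right
  refine ⟨RGD.Sup X (RGD.Pos cs h), R.isPGroup_Upos, ?_, fun P hP => ?_⟩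
  · have h1 := KFacts.RgdSyl.not_dvd_relIndex R
    rwa [hGG, Subgroup.relIndex_top_right] at h1
  · rcases TitsRGD.dichotomy R hP (by rw [hGG]; exact le_top) with h1 | h1
    · left
      rw [eq_top_iff, ← hG]
      exact h1
    · exact Or.inr h1

theorem dich_of_hasRGD {G : Type*} [Group G] [Finite G] {p : ℕ} [Fact p.Prime] (hG : Nodes.RGDChev.HasRGD p G) :
    Dich p G := by
  obtain ⟨l, M, A, h, T, n, X, h1, R, h2⟩ := hG
  exact dich_of_rgd R h2

end Cfsg.Agent.H248.Ovg
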