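import Mathlib
import Cfsg.Agent.H248.Dich
import Cfsg.Agent.LieRecognition.RankOneBasic
set_option linter.all false

/-!
# `Dich p G` for groups of rank one: `G = B ∪ U n B` (helper248)
-/

set_option autoImplicit false

namespace Cfsg.Agent.H248.Ovg

open Subgroup Cfsg

theorem dich_of_rankOne {p : ℕ} [Fact p.Prime] {G : Type*} [Group G] [Finite G] [IsSimpleGroup G]
    {U B : Subgroup G} {n : G} (hU : IsPGroup p U) (hU1 : U ≠ ⊥) (hUB : U ≤ B) (hBU : B ≤ normalizer (U : Set G))
    (hBi : ¬ p ∣ U.relIndex B) (hn : ∃ u ∈ U, n⁻¹ * u * n ∉ B)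
    (hbr : ∀ g, g ∈ B ∨ ∃ u ∈ U, ∃ b ∈ B, g = u * n * b) : Dich p G := by
  refine ⟨U, hU, ?_, fun M hM => ?_⟩
  · -- the index
    have h1 : U.relIndex B * B.index = U.index := relIndex_mul_index hUB
    rw [← h1, Nat.Prime.dvd_mul Fact.out]
    rintro (h2 | h2)
    · exact hBi h2
    · -- fixed points of `U` on `G / B`
      have h3 : Nat.card (G ⧸ B) ≡ Nat.card (MulAction.fixedPoints U (G ⧸ B)) [MOD p] :=
        hU.card_modEq_card_fixedPoints (G ⧸ B)
      have h4 : MulAction.fixedPoints U (G ⧸ B) = {((1 : G) : G ⧸ B)} := by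
        ext x
        obtain ⟨g, rfl⟩ := QuotientGroup.mk_surjective x
        rw [Set.mem_singleton_iff, MulAction.mem_fixedPoints]
        constructor
        · intro hx
          rcases hbr g with hg | ⟨u, hu, b, hb, rfl⟩
          · rw [eq_comm, QuotientGroup.eq, inv_one, one_mul]
            exact hg
          · exfalso
            obtain ⟨v, hv, hvn⟩ := hn
            have h5 := hx ⟨u * v * u⁻¹, mul_mem (mul_mem hu hv) (inv_mem hu)⟩
            have h6 : ((u * v * u⁻¹ * (u * n * b) : G) : G ⧸ B) = ((u * n * b : G) : G ⧸ B) := h5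
            rw [eq_comm, QuotientGroup.eq] at h6
            have e : (u * n * b)⁻¹ * (u * v * u⁻¹ * (u * n * b)) = b⁻¹ * (n⁻¹ * v * n) * b := by group
            rw [e] at h6
            apply hvn
            have h7 := mul_mem (mul_mem hb h6) (inv_mem hb)
            have e2 : b * (b⁻¹ * (n⁻¹ * v * n) * b) * b⁻¹ = n⁻¹ * v * n := by group
            rwa [e2] at h7
        · intro hx ⟨u, hu⟩
          rw [hx]
          show ((u * 1 : G) : G ⧸ B) = ((1 : G) : G ⧸ B)
          rw [mul_one, eq_comm, QuotientGroup.eq, inv_one, one_mul]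
          exact hUB hu
      have h41 : Nat.card ↥({((1 : G) : G ⧸ B)} : Set (G ⧸ B)) = 1 := by
        rw [Nat.card_coe_set_eq, Set.ncard_singleton]
      rw [h4, h41] at h3
      have h5 : B.index ≡ 1 [MOD p] := h3
      have h6 : p ∣ 1 := (Nat.modEq_zero_iff_dvd.1 (h5.symm.trans (Nat.modEq_zero_iff_dvd.2 h2)))
      exact (Fact.out : p.Prime).one_lt.ne' (Nat.dvd_one.1 h6)
  · by_cases hMU : M ≤ normalizer (U : Set G)
    · exact Or.inr ⟨U, hU1, hU, hM, hMU⟩
    left
    obtain ⟨m, hm, hmU⟩ := SetLike.not_le_iff_exists.1 hMU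
    obtain h1 | ⟨u, hu, b, hb, rfl⟩ := hbr m
    · exact absurd (hBU h1) hmU
    -- `n U n⁻¹ ≤ M`
    have hnU : ∀ x ∈ U, n * x * n⁻¹ ∈ M := by
      intro x hx
      have h2 : b⁻¹ * x * b ∈ U := by
        have := (mem_normalizer_iff.1 (hBU (inv_mem hb)) x).1 hx
        rwa [inv_inv] at this
      have h3 := mul_mem (mul_mem hm (hM h2)) (inv_mem hm)
      have h4 := mul_mem (mul_mem (inv_mem (hM hu)) h3) (hM hu)
      have e : u⁻¹ * (u * n * b * (b⁻¹ * x * b) * (u * n * b)⁻¹) * u = n * x * n⁻¹ := by group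
      rwa [e] at h4
    have hall : ∀ g : G, ∀ x ∈ U, g * x * g⁻¹ ∈ M := by
      intro g x hx
      obtain h1 | ⟨v, hv, c, hc, rfl⟩ := hbr g
      · exact hM ((mem_normalizer_iff.1 (hBU h1) x).1 hx)
      · have h2 := hnU _ ((mem_normalizer_iff.1 (hBU hc) x).1 hx)
        have h3 := mul_mem (mul_mem (hM hv) h2) (inv_mem (hM hv))
        have e : v * (n * (c * x * c⁻¹) * n⁻¹) * v⁻¹ = v * n * c * x * (v * n * c)⁻¹ := by group
        rwa [e] at h3
    have h5 : normalClosure (U : Set G) ≤ M := by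
      rw [normalClosure, closure_le]
      rintro y hy
      rw [Group.mem_conjugatesOfSet_iff] at hy
      obtain ⟨x, hx, hxy⟩ := hy
      obtain ⟨g, rfl⟩ := isConj_iff.1 hxy
      exact hall g x hx
    have h6 : normalClosure (U : Set G) = ⊤ := by
      rcases IsSimpleGroup.eq_bot_or_eq_top_of_normal (normalClosure (U : Set G)) normalClosure_normal with h7 | h7
      · exfalso
        apply hU1
        rw [eq_bot_iff, ← h7]
        exact subset_normalClosure
      · exact h7
    rw [h6] at h5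
    exact top_le_iff.1 h5

/-- **Sz(q) and the like**: a doubly transitive group with a normal 2-subgroup of the stabiliser regular on the other
points -/
theorem dich_of_setup {G Ω : Type*} [Group G] [Finite G] [IsSimpleGroup G] [MulAction G Ω] {a : Ω} {t : G}
    {Q : Subgroup G} (hS : IsRankOneSetup G Ω a t Q) (hQ : IsPGroup 2 Q) : Dich 2 G := by
  have : Fact (Nat.Prime 2) := ⟨Nat.prime_two⟩
  have hQ1 : Q ≠ ⊥ := by
    rintro rfl
    have := hS.even_card
    rw [Subgroup.card_bot] at this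
    exact absurd this (by decide)
  refine dich_of_rankOne (U := Q) (B := MulAction.stabilizer G a) (n := t) hQ hQ1 hS.le
    (LieRecognition.RankOneBasic.stabilizer_le_normalizer hS) ?_ ?_ ?_
  · -- the relative index divides `|D|`
    set D := MulAction.stabilizer G a ⊓ MulAction.stabilizer G (t • a) with hD
    have hDB : D ≤ MulAction.stabilizer G a := inf_le_left
    have hQn : (Q.subgroupOf (MulAction.stabilizer G a)).Normal := by
      refine ⟨fun v hv g => ?_⟩
      rw [mem_subgroupOf] at hv ⊢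
      exact hS.conj_mem _ g.2 _ hv
    let f : ↥D →* ↥(MulAction.stabilizer G a) ⧸ Q.subgroupOf (MulAction.stabilizer G a) :=
      (QuotientGroup.mk' _).comp (Subgroup.inclusion hDB)
    have hf : Function.Surjective f := by
      intro x
      obtain ⟨g, rfl⟩ := QuotientGroup.mk_surjective x
      obtain ⟨q, hq, d, hd, e⟩ := LieRecognition.RankOneBasic.exists_mul_of_mem_stabilizer hS g.2
      have hd' : d ∈ D := hd
      refine ⟨⟨d, hd'⟩, ?_⟩
      show ((⟨d, hDB hd'⟩ : ↥(MulAction.stabilizer G a)) :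
        ↥(MulAction.stabilizer G a) ⧸ Q.subgroupOf (MulAction.stabilizer G a)) = _
      rw [eq_comm, QuotientGroup.eq, mem_subgroupOf]
      show (g : G)⁻¹ * d ∈ Q
      rw [e]
      have h1 := hS.conj_mem _ (inv_mem (hDB hd')) _ (inv_mem hq)
      rw [inv_inv] at h1
      have e2 : (q * d)⁻¹ * d = d⁻¹ * q⁻¹ * d := by group
      rw [e2]
      exact h1
    have h4 : Nat.card (↥(MulAction.stabilizer G a) ⧸ Q.subgroupOf (MulAction.stabilizer G a)) ∣ Nat.card D :=
      Subgroup.card_dvd_of_surjective f hf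
    intro h3
    have h5 := hS.odd_card
    rw [← hD] at h5
    exact (Nat.not_even_iff_odd.2 h5) (even_iff_two_dvd.2 (h3.trans h4))
  · obtain ⟨x, hx⟩ := Subgroup.ne_bot_iff_exists_ne_one.1 hQ1
    refine ⟨x, x.2, fun h => hx (Subtype.ext ?_)⟩
    refine LieRecognition.RankOneBasic.eq_one_of_smul_t_smul hS x.2 ?_
    rw [MulAction.mem_stabilizer_iff, mul_smul, mul_smul, inv_smul_eq_iff] at h
    exact h
  · intro g
    by_cases hg : g ∈ MulAction.stabilizer G a
    · exact Or.inl hg
    right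
    obtain ⟨u, hu, he⟩ := LieRecognition.RankOneBasic.exists_smul_t_smul hS
      (c := g • a) (fun h => hg (MulAction.mem_stabilizer_iff.2 h))
    refine ⟨u, hu, (u * t)⁻¹ * g, ?_, by group⟩
    rw [MulAction.mem_stabilizer_iff, mul_smul, ← he, ← mul_smul u t a, inv_smul_smul]

end Cfsg.Agent.H248.Ovg
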