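import Mathlib
import Cfsg.Agent.H248.TwF4Dich
import Cfsg.Agent.S1074
set_option linter.all false

/-!
# `Dich 2 G` for the Tits group `²F₄(2)'` (helper248)

`S : Full σ G`, `|F| = 2`, `N ⊴ G` with `[G, G] ≤ N`, `N ≠ G`.
-/

set_option autoImplicit false
set_option linter.unusedSectionVars false

namespace Cfsg.Agent.H248.TwF4Over

open Cfsg.Agent.KFacts.TwF4 Cfsg.Agent.KFacts.TwF4.Full Cfsg.Agent.KFacts.TwF4.Arc
open Cfsg.Agent.KFacts.TwF4.Inv Cfsg.Agent.KFacts.TwF4.SylU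
open Cfsg.Agent.SplitTwo Cfsg.Agent.SplitTwo.ZS Cfsg.Agent.TitsThree.RankTwoZ
open Cfsg.Agent.SplitTwo.RootSysZ Subgroup Cfsg Cfsg.Lie Cfsg.Agent.H248.Ovg
open scoped commutatorElement

universe u

section rel

variable {G : Type*} [Group G] {a b n : G}

/-- `b⁻¹ a b = a⁻² b a²` -/
theorem rel1 (hn : n = a * a * b⁻¹ * a) (h : n * a * n⁻¹ = b) : b⁻¹ * a * b = (a * a)⁻¹ * b * (a * a) := by
  rw [hn] at h
  have e : a * a * b⁻¹ * a * a * (a * a * b⁻¹ * a)⁻¹ = (a * a) * (b⁻¹ * a * b) * (a * a)⁻¹ := by group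
  rw [e] at h
  calc b⁻¹ * a * b = (a * a)⁻¹ * ((a * a) * (b⁻¹ * a * b) * (a * a)⁻¹) * (a * a) := by group
    _ = _ := by rw [h]

/-- `n = b a² b⁻¹` -/
theorem rel2 (hn : n = a * a * b⁻¹ * a) (h : n * a * n⁻¹ = b) : n = b * (a * a) * b⁻¹ := by
  calc n = (a * a) * (b⁻¹ * a * b) * b⁻¹ := by rw [hn]; group
    _ = (a * a) * ((a * a)⁻¹ * b * (a * a)) * b⁻¹ := by rw [rel1 hn h]
    _ = _ := by group

/-- `b⁻¹ a² b = a⁻² b² a²` -/
theorem rel3 (hn : n = a * a * b⁻¹ * a) (h : n * a * n⁻¹ = b) :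
    b⁻¹ * (a * a) * b = (a * a)⁻¹ * (b * b) * (a * a) := by
  calc b⁻¹ * (a * a) * b = (b⁻¹ * a * b) * (b⁻¹ * a * b) := by group
    _ = ((a * a)⁻¹ * b * (a * a)) * ((a * a)⁻¹ * b * (a * a)) := by rw [rel1 hn h]
    _ = _ := by group

/-- `b a² b⁻¹ = b² a⁻² b² a² b⁻²` -/
theorem rel4 (hn : n = a * a * b⁻¹ * a) (h : n * a * n⁻¹ = b) :
    b * (a * a) * b⁻¹ = (b * b) * ((a * a)⁻¹ * (b * b) * (a * a)) * (b * b)⁻¹ := by
  rw [← rel3 hn h]
  group

/-- `a b² a⁻¹ = b a² b⁻¹` -/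
theorem rel5 (hn : n = a * a * b⁻¹ * a) (h' : n * b * n⁻¹ = a) :
    a * (b * b) * a⁻¹ = b * (a * a) * b⁻¹ := by
  have h1 : b⁻¹ * a * b * a⁻¹ * b = a := by
    rw [hn] at h'
    have e : a * a * b⁻¹ * a * b * (a * a * b⁻¹ * a)⁻¹ = (a * a) * (b⁻¹ * a * b * a⁻¹ * b) * (a * a)⁻¹ := by group
    rw [e] at h'
    calc b⁻¹ * a * b * a⁻¹ * b = (a * a)⁻¹ * ((a * a) * (b⁻¹ * a * b * a⁻¹ * b) * (a * a)⁻¹) * (a * a) := by group
      _ = (a * a)⁻¹ * a * (a * a) := by rw [h']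
      _ = a := by group
  have h2 : a * b * a⁻¹ = b * a * b⁻¹ := by
    calc a * b * a⁻¹ = b * (b⁻¹ * a * b * a⁻¹ * b) * b⁻¹ := by group
      _ = _ := by rw [h1]
  calc a * (b * b) * a⁻¹ = (a * b * a⁻¹) * (a * b * a⁻¹) := by group
    _ = (b * a * b⁻¹) * (b * a * b⁻¹) := by rw [h2]
    _ = _ := by group

end rel

/-- the hypotheses -/
structure Two (F : Type*) [Field F] {G : Type*} [Group G] (N : Subgroup G) : Prop where
  two : ∀ x : F, x = 0 ∨ x = 1
  comm : commutator G ≤ N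
  ne : N ≠ ⊤

variable {F : Type*} [Field F] {σ : F →+* F} {G : Type u} [Group G] (S : Full σ G) {N : Subgroup G}

theorem conj_mem_of_comm (hc : commutator G ≤ N) (g : G) {x : G} (hx : x ∈ N) : g * x * g⁻¹ ∈ N := by
  have h1 : ⁅g, x⁆ ∈ N := hc (by
    rw [commutator_def]
    exact commutator_mem_commutator (mem_top g) (mem_top x))
  have e : g * x * g⁻¹ = ⁅g, x⁆ * x := by rw [commutatorElement_def]; group
  rw [e]
  exact mul_mem h1 hx

theorem comm_mem (hc : commutator G ≤ N) {x y z : G} (h : x * y = y * x * z) : z ∈ N := by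
  have e : z = ⁅x⁻¹, y⁻¹⁆ := by
    rw [commutatorElement_def]
    have : z = (y * x)⁻¹ * (x * y) := by rw [h]; group
    rw [this]
    group
  rw [e]
  apply hc
  rw [commutator_def]
  exact commutator_mem_commutator (mem_top _) (mem_top _)

variable (T : Two F N)

include S T

theorem two_o_mem (a : ZMod 8) (t : F) : S.o a t ∈ N := by
  rcases T.two t with rfl | rfl
  · rw [S.o_zero]; exact one_mem _
  · have h := S.e_e1 a 1 0 1 0
    rw [mul_one] at h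
    exact comm_mem T.comm h

theorem two_e0_mem (a : ZMod 8) (u : F) : S.e a 0 u ∈ N := by
  rcases T.two u with rfl | rfl
  · rw [S.e_zero]; exact one_mem _
  · have h := S.o_e2 (a - 1) 1 1 0
    rw [mul_one, sub_add_cancel] at h
    exact comm_mem T.comm h

theorem two_e_eq (a : ZMod 8) (u : F) : S.e a 1 u = S.e a 1 0 * S.e a 0 u := by
  rw [S.e_mul, map_zero, mul_zero, add_zero, add_zero, zero_add]

theorem two_e1_not_mem (a : ZMod 8) : S.e a 1 0 ∉ N := by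
  intro h
  have h1 : ∀ c, S.e c 1 0 ∈ N := by
    refine Sys.ind8 (P := fun c => S.e c 1 0 ∈ N) a h ?_
    intro c hc
    rw [← S.rot_e]
    exact conj_mem_of_comm T.comm _ hc
  apply T.ne
  rw [eq_top_iff, ← S.R.gen]
  refine iSup_le fun i => ?_
  intro x hx
  rcases od_or_ev i with ⟨a, rfl⟩ | ⟨a, rfl⟩
  · obtain ⟨t, rfl⟩ := (S.mem_odd a x).1 hx
    exact (two_o_mem S T) a t
  · obtain ⟨p, u, rfl⟩ := (S.mem_even a x).1 hx
    rcases T.two p with rfl | rfl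
    · exact (two_e0_mem S T) a u
    · rw [(two_e_eq S T)]
      exact mul_mem (h1 a) ((two_e0_mem S T) a u)

theorem two_mem_iff (a : ZMod 8) (p u : F) : S.e a p u ∈ N ↔ p = 0 := by
  constructor
  · intro h
    rcases T.two p with h0 | rfl
    · exact h0
    · exfalso
      apply (two_e1_not_mem S T) a
      have h1 := mul_mem h (inv_mem ((two_e0_mem S T) a u))
      rw [(two_e_eq S T), mul_inv_cancel_right] at h1
      exact h1
  · rintro rfl
    exact (two_e0_mem S T) a u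

theorem two_sq (a : ZMod 8) : S.e a 1 0 * S.e a 1 0 = S.e a 0 1 := by
  rw [e_sq S, map_one, mul_one]

theorem two_n2_eq : S.n2 = S.e 4 1 0 * S.e 4 1 0 * (S.e 0 1 0)⁻¹ * S.e 4 1 0 := by
  rw [S.n2_word, (two_sq S T), e_inv S, map_one, mul_one, zero_add]

theorem two_n2_a : S.n2 * S.e 4 1 0 * S.n2⁻¹ = S.e 0 1 0 := by
  rw [S.n2_e, sub_self]

theorem two_n2_b : S.n2 * S.e 0 1 0 * S.n2⁻¹ = S.e 4 1 0 := by
  rw [S.n2_e, sub_zero]

/-- the relations in `Sz(2)` -/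
theorem two_conj_ab {M : Subgroup G} (h4 : S.e 4 0 1 ∈ M) (h0 : S.e 0 0 1 ∈ M) :
    S.e 4 1 0 * S.e 0 0 1 * (S.e 4 1 0)⁻¹ ∈ M ∧ S.n2 ∈ M := by
  have h1 : S.e 0 1 0 * (S.e 4 1 0 * S.e 4 1 0) * (S.e 0 1 0)⁻¹ ∈ M := by
    rw [rel4 (two_n2_eq S T) (two_n2_a S T), (two_sq S T), (two_sq S T)]
    exact mul_mem (mul_mem h0 (mul_mem (mul_mem (inv_mem h4) h0) h4)) (inv_mem h0)
  constructor
  · rw [← (two_sq S T) 0, rel5 (two_n2_eq S T) (two_n2_b S T)]
    exact h1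
  · rw [rel2 (two_n2_eq S T) (two_n2_a S T)]
    exact h1

/-- the generating relation: `e_c(1,1) o_c e_{c+1}(1,0)` is generated by the root elements of `N` -/
theorem two_pair {M : Subgroup G} (ho : ∀ c, S.o c 1 ∈ M) (he : ∀ c, S.e c 0 1 ∈ M) (c : ZMod 8) :
    S.e c 1 1 * S.o c 1 * S.e (c + 1) 1 0 ∈ M := by
  have h := S.o_e4 (c - 2) 1 0 1
  have e1 : c - 2 + 1 = c - 1 := by ring
  have e2 : c - 2 + 2 = c := by ring
  have e3 : c - 2 + 3 = c + 1 := by ring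
  have e4 : c - 2 + 4 = c + 2 := by ring
  rw [e1, e2, e3, e4] at h
  simp only [map_one, map_zero, mul_one, mul_zero, add_zero, zero_add] at h
  have h1 := ho (c - 2)
  have h2 := he (c + 2)
  have h3 := ho (c + 1)
  have h4 := he (c - 1)
  have h5 := ho (c - 1)
  have e : S.e c 1 1 * S.o c 1 * S.e (c + 1) 1 0 =
      (S.e (c + 2) 0 1 * S.o (c - 2) 1 * S.e (c - 1) 0 1 * S.o (c - 1) 1)⁻¹ *
        (S.o (c - 2) 1 * S.e (c + 2) 0 1) * (S.o (c + 1) 1)⁻¹ := by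
    rw [h]; group
  rw [e]
  exact mul_mem (mul_mem (inv_mem (mul_mem (mul_mem (mul_mem h2 h1) h4) h5)) (mul_mem h1 h2)) (inv_mem h3)

/-- `e_4(1,0)⁻¹ o_0 e_4(1,0)` is generated by the root elements of `N` -/
theorem two_conj_o {M : Subgroup G} (ho : ∀ c, S.o c 1 ∈ M) (he : ∀ c, S.e c 0 1 ∈ M) :
    (S.e 4 1 0)⁻¹ * S.o 0 1 * S.e 4 1 0 ∈ M := by
  have h := S.o_e4 0 1 1 0
  simp only [zero_add] at h
  simp only [map_one, map_zero, mul_one, mul_zero, add_zero, zero_add] at h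
  have h1 := two_pair S T ho he 1
  have e1 : (1 : ZMod 8) + 1 = 2 := by decide
  rw [e1] at h1
  have e : (S.e 4 1 0)⁻¹ * S.o 0 1 * S.e 4 1 0 =
      S.o 0 1 * (S.e 1 1 1 * S.o 1 1 * S.e 2 1 0) * S.o 2 1 * S.e 3 0 1 * S.o 3 1 := by
    rw [mul_assoc, h]; group
  rw [e]
  exact mul_mem (mul_mem (mul_mem (mul_mem (ho 0) h1) (ho 2)) (he 3)) (ho 3)

/-- all root elements of `N` from four of them -/
theorem two_all {M : Subgroup G} (h1 : S.n1 ∈ M) (h2 : S.n2 ∈ M) (ho : S.o 0 1 ∈ M) (he : S.e 0 0 1 ∈ M) :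
    (∀ c, S.o c 1 ∈ M) ∧ ∀ c, S.e c 0 1 ∈ M := by
  constructor
  · refine Sys.ind8 (P := fun c => S.o c 1 ∈ M) 0 ho fun c hc => ?_
    have h3 := mul_mem (mul_mem h2 hc) (inv_mem h2)
    rw [S.n2_o] at h3
    have h4 := mul_mem (mul_mem h1 h3) (inv_mem h1)
    rw [S.n1_o] at h4
    have e : (4 : ZMod 8) - (3 - c) = c + 1 := by
      have : (4 : ZMod 8) = 3 + 1 := by decide
      rw [this]; ring
    rwa [e] at h4
  · refine Sys.ind8 (P := fun c => S.e c 0 1 ∈ M) 0 he fun c hc => ?_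
    have h3 := mul_mem (mul_mem h2 hc) (inv_mem h2)
    rw [S.n2_e] at h3
    have h4 := mul_mem (mul_mem h1 h3) (inv_mem h1)
    rw [S.n1_e] at h4
    have e : (5 : ZMod 8) - (4 - c) = c + 1 := by
      have : (5 : ZMod 8) = 4 + 1 := by decide
      rw [this]; ring
    rwa [e] at h4

/-- **`N` is generated by its root elements** -/
theorem two_le [Finite G] {M : Subgroup G} (ho : ∀ c, S.o c 1 ∈ M) (he : ∀ c, S.e c 0 1 ∈ M) : N ≤ M := by
  -- the group generated by four root elements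
  set K : Subgroup G := closure {S.o 0 1, S.o 4 1, S.e 4 0 1, S.e 0 0 1} with hK
  have k1 : S.o 0 1 ∈ K := subset_closure (by simp)
  have k2 : S.o 4 1 ∈ K := subset_closure (by simp)
  have k3 : S.e 4 0 1 ∈ K := subset_closure (by simp)
  have k4 : S.e 0 0 1 ∈ K := subset_closure (by simp)
  have hKM : K ≤ M := by
    rw [hK, closure_le]
    rintro x (rfl | rfl | rfl | rfl)
    exacts [ho 0, ho 4, he 4, he 0]
  have hn1 : S.n1 ∈ K := by
    rw [S.n1_word]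
    exact mul_mem (mul_mem k1 k2) k1
  have hn2 : S.n2 ∈ K := (two_conj_ab S T k3 k4).2
  obtain ⟨ko, ke⟩ := two_all S T hn1 hn2 k1 k4
  set a := S.e 4 1 0 with ha
  have haa : a * a ∈ K := by rw [ha, two_sq S T]; exact k3
  -- `a` normalises `K`
  have hc1 : K ≤ K.comap (MulAut.conj a⁻¹).toMonoidHom := by
    conv_lhs => rw [hK]
    rw [closure_le]
    rintro x (rfl | rfl | rfl | rfl)
    · show a⁻¹ * S.o 0 1 * a⁻¹⁻¹ ∈ K
      rw [inv_inv]
      exact two_conj_o S T ko ke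
    · show a⁻¹ * S.o 4 1 * a⁻¹⁻¹ ∈ K
      rw [inv_inv]
      have h := S.e_o0 4 1 0 1
      rw [← ha] at h
      have e : a⁻¹ * S.o 4 1 * a = S.o 4 1 := by rw [mul_assoc, ← h]; group
      rw [e]
      exact k2
    · show a⁻¹ * S.e 4 0 1 * a⁻¹⁻¹ ∈ K
      rw [inv_inv, ← two_sq S T 4]
      have e : a⁻¹ * (S.e 4 1 0 * S.e 4 1 0) * a = S.e 4 1 0 * S.e 4 1 0 := by rw [← ha]; group
      rw [e]
      exact haa
    · show a⁻¹ * S.e 0 0 1 * a⁻¹⁻¹ ∈ K
      rw [inv_inv]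
      have h := (two_conj_ab S T k3 k4).1
      have e : a⁻¹ * S.e 0 0 1 * a = (a * a)⁻¹ * (a * S.e 0 0 1 * a⁻¹) * (a * a) := by group
      rw [e]
      exact mul_mem (mul_mem (inv_mem haa) h) haa
  have hc2 : ∀ x ∈ K, a⁻¹ * x * a ∈ K := by
    intro x hx
    have := hc1 hx
    change a⁻¹ * x * a⁻¹⁻¹ ∈ K at this
    rwa [inv_inv] at this
  have hc3 : ∀ x ∈ K, a * x * a⁻¹ ∈ K := by
    intro x hx
    have h := hc2 x hx
    have e : a * x * a⁻¹ = (a * a) * (a⁻¹ * x * a) * (a * a)⁻¹ := by group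
    rw [e]
    exact mul_mem (mul_mem haa h) (inv_mem haa)
  -- `G = K ∪ K a`
  have hall : ∀ g : G, g ∈ K ∨ g * a⁻¹ ∈ K := by
    let H : Subgroup G :=
      { carrier := {g | g ∈ K ∨ g * a⁻¹ ∈ K}
        one_mem' := Or.inl (one_mem _)
        mul_mem' := by
          rintro x y (hx | hx) (hy | hy)
          · exact Or.inl (mul_mem hx hy)
          · right
            have e : x * y * a⁻¹ = x * (y * a⁻¹) := by group
            rw [e]; exact mul_mem hx hy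
          · right
            have e : x * y * a⁻¹ = (x * a⁻¹) * (a * y * a⁻¹) := by group
            rw [e]; exact mul_mem hx (hc3 y hy)
          · left
            have e : x * y = (x * a⁻¹) * (a * (y * a⁻¹) * a⁻¹) * (a * a) := by group
            rw [e]; exact mul_mem (mul_mem hx (hc3 _ hy)) haa
        inv_mem' := by
          rintro x (hx | hx)
          · exact Or.inl (inv_mem hx)
          · right
            have e : x⁻¹ * a⁻¹ = (a⁻¹ * (x * a⁻¹)⁻¹ * a) * (a * a)⁻¹ := by group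
            rw [e]; exact mul_mem (hc2 _ (inv_mem hx)) (inv_mem haa) }
    have haH : a ∈ H := Or.inr (by rw [mul_inv_cancel]; exact one_mem _)
    have hKH : K ≤ H := fun x hx => Or.inl hx
    have he1 : ∀ c, S.e c 1 0 ∈ H := by
      refine Sys.ind8 (P := fun c => S.e c 1 0 ∈ H) 4 haH fun c hc => ?_
      have h3 := mul_mem (mul_mem (hKH hn2) hc) (inv_mem (hKH hn2))
      rw [S.n2_e] at h3
      have h4 := mul_mem (mul_mem (hKH hn1) h3) (inv_mem (hKH hn1))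
      rw [S.n1_e] at h4
      have e : (5 : ZMod 8) - (4 - c) = c + 1 := by
        have : (5 : ZMod 8) = 4 + 1 := by decide
        rw [this]; ring
      rwa [e] at h4
    have hH : H = ⊤ := by
      rw [eq_top_iff, ← S.R.gen]
      refine iSup_le fun i => ?_
      intro x hx
      rcases od_or_ev i with ⟨b, rfl⟩ | ⟨b, rfl⟩
      · obtain ⟨t, rfl⟩ := (S.mem_odd b x).1 hx
        rcases T.two t with rfl | rfl
        · rw [S.o_zero]; exact one_mem _
        · exact hKH (ko b)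
      · obtain ⟨p, u, rfl⟩ := (S.mem_even b x).1 hx
        have hu : S.e b 0 u ∈ H := by
          rcases T.two u with rfl | rfl
          · rw [S.e_zero]; exact one_mem _
          · exact hKH (ke b)
        rcases T.two p with rfl | rfl
        · exact hu
        · rw [two_e_eq S T]
          exact mul_mem (he1 b) hu
    intro g
    have : g ∈ H := by rw [hH]; trivial
    exact this
  have hKN : K ≤ N := by
    rw [hK, closure_le]
    rintro x (rfl | rfl | rfl | rfl)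
    exacts [two_o_mem S T 0 1, two_o_mem S T 4 1, two_e0_mem S T 4 1, two_e0_mem S T 0 1]
  intro g hg
  refine hKM ?_
  rcases hall g with h | h
  · exact h
  · exfalso
    apply two_e1_not_mem S T 4
    have h1 := mul_mem (inv_mem (hKN h)) hg
    have e : (g * a⁻¹)⁻¹ * g = a := by group
    rwa [e] at h1

/-- **the conditions for the Tits group** -/
theorem two_cond [Finite G] : Cond S N where
  conj := fun g _ hx => conj_mem_of_comm T.comm g hx
  n1_mem := by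
    intro M h1 h9
    rw [S.n1_word]
    have a := h1 (mem_inf.2 ⟨(mem_X1 S).2 ⟨1, rfl⟩, two_o_mem S T 0 1⟩)
    exact mul_mem (mul_mem a (h9 (mem_inf.2 ⟨(mem_X9 S).2 ⟨1, rfl⟩, two_o_mem S T 4 1⟩))) a
  n2_mem := by
    intro M h8 h0
    exact (two_conj_ab S T (h8 (mem_inf.2 ⟨(mem_X8 S).2 ⟨0, 1, rfl⟩, two_e0_mem S T 4 1⟩))
      (h0 (mem_inf.2 ⟨(mem_X0 S).2 ⟨0, 1, rfl⟩, two_e0_mem S T 0 1⟩))).2
  gen := by
    intro M h
    refine two_le S T ?_ ?_
    · intro c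
      have h1 : S.o c 1 ∈ S.R.X (od c) := (S.mem_odd c _).2 ⟨1, rfl⟩
      have h2 := h ((od c).val : ℤ)
      rw [xz_eq, Int.cast_natCast, ZMod.natCast_zmod_val] at h2
      exact h2 (mem_inf.2 ⟨h1, two_o_mem S T c 1⟩)
    · intro c
      have h1 : S.e c 0 1 ∈ S.R.X (ev c) := (S.mem_even c _).2 ⟨0, 1, rfl⟩
      have h2 := h ((ev c).val : ℤ)
      rw [xz_eq, Int.cast_natCast, ZMod.natCast_zmod_val] at h2
      exact h2 (mem_inf.2 ⟨h1, two_e0_mem S T c 1⟩)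
  norm1 := by
    have Z := S.zsys8
    intro u hu x hx
    set L := (J S.XZ 1 8 ⊓ N) ⊔ (S.XZ 9 ⊓ N) with hL
    have hUL : J S.XZ 1 8 ⊓ N ≤ L := le_sup_left
    have h9L : S.XZ 9 ⊓ N ≤ L := le_sup_right
    obtain ⟨y, hy, v, hv, rfl⟩ := Z.split_ll (a := 1) (b := 8) (by norm_num) (by norm_num) hu
    have hyL : y ∈ L := by
      obtain ⟨t, rfl⟩ := (mem_X1 S).1 hy
      exact hUL (mem_inf.2 ⟨X_le_J (by norm_num) (by norm_num) hy, two_o_mem S T 0 t⟩)
    have hvU : v ∈ J S.XZ 1 8 := J_mono (by norm_num) (by norm_num) hv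
    have key : L ≤ L.comap (MulAut.conj v).toMonoidHom := by
      rw [hL]
      refine sup_le ?_ ?_
      · intro z hz
        refine hUL (mem_inf.2 ⟨?_, conj_mem_of_comm T.comm v hz.2⟩)
        exact (J S.XZ 1 8).mul_mem ((J S.XZ 1 8).mul_mem hvU hz.1) ((J S.XZ 1 8).inv_mem hvU)
      · intro z hz
        show v * z * v⁻¹ ∈ L
        have h1 : z⁻¹ * v * z⁻¹⁻¹ ∈ J S.XZ 2 8 :=
          Z.conj_X (a := 2) (b := 8) (k := 9) (by norm_num) (by norm_num) (by norm_num) (inv_mem hz.1) hv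
        rw [inv_inv] at h1
        have h2 : z⁻¹ * v * z * v⁻¹ ∈ J S.XZ 1 8 := J_mono (by norm_num) (by norm_num) (mul_mem h1 (inv_mem hv))
        have h3 : z⁻¹ * v * z * v⁻¹ ∈ N := by
          have hzN : z ∈ N := hz.2
          have h4 := mul_mem (inv_mem hzN) (conj_mem_of_comm T.comm v hzN)
          have e : z⁻¹ * (v * z * v⁻¹) = z⁻¹ * v * z * v⁻¹ := by group
          rwa [e] at h4
        have e : v * z * v⁻¹ = z * (z⁻¹ * v * z * v⁻¹) := by group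
        rw [e]
        exact mul_mem (h9L hz) (hUL (mem_inf.2 ⟨h2, h3⟩))
    have h5 : v * x * v⁻¹ ∈ L := key hx
    have e : y * v * x * (y * v)⁻¹ = y * (v * x * v⁻¹) * y⁻¹ := by group
    rw [e]
    exact mul_mem (mul_mem hyL h5) (inv_mem hyL)
  norm2 := by
    have Z := S.zsys8
    intro u hu x hx
    set L := (J S.XZ 1 8 ⊓ N) ⊔ (S.XZ 0 ⊓ N) with hL
    have hUL : J S.XZ 1 8 ⊓ N ≤ L := le_sup_left
    have h9L : S.XZ 0 ⊓ N ≤ L := le_sup_right
    have hL4 : S.e 4 0 1 ∈ L :=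
      hUL (mem_inf.2 ⟨X_le_J (X := S.XZ) (k := 8) (by norm_num) (by norm_num) ((mem_X8 S).2 ⟨0, 1, rfl⟩),
        two_e0_mem S T 4 1⟩)
    have hL0 : S.e 0 0 1 ∈ L := h9L (mem_inf.2 ⟨(mem_X0 S).2 ⟨0, 1, rfl⟩, two_e0_mem S T 0 1⟩)
    obtain ⟨y, hy, v, hv, rfl⟩ := Z.split_rl (a := 1) (b := 8) (by norm_num) (by norm_num) hu
    have hvU : v ∈ J S.XZ 1 8 := J_mono (by norm_num) (by norm_num) hv
    have conjU : ∀ w ∈ J S.XZ 1 8, ∀ z ∈ J S.XZ 1 8 ⊓ N, w * z * w⁻¹ ∈ L := by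
      intro w hw z hz
      refine hUL (mem_inf.2 ⟨?_, conj_mem_of_comm T.comm w hz.2⟩)
      exact (J S.XZ 1 8).mul_mem ((J S.XZ 1 8).mul_mem hw hz.1) ((J S.XZ 1 8).inv_mem hw)
    have key : L ≤ L.comap (MulAut.conj v).toMonoidHom := by
      rw [hL]
      refine sup_le (fun z hz => conjU v hvU z hz) ?_
      intro z hz
      show v * z * v⁻¹ ∈ L
      have h1 : z⁻¹ * v * z⁻¹⁻¹ ∈ J S.XZ 1 7 :=
        Z.conj_X (a := 1) (b := 7) (k := 0) (by norm_num) (by norm_num) (by norm_num) (inv_mem hz.1) hv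
      rw [inv_inv] at h1
      have h2 : z⁻¹ * v * z * v⁻¹ ∈ J S.XZ 1 8 := J_mono (by norm_num) (by norm_num) (mul_mem h1 (inv_mem hv))
      have h3 : z⁻¹ * v * z * v⁻¹ ∈ N := by
        have hzN : z ∈ N := hz.2
        have h4 := mul_mem (inv_mem hzN) (conj_mem_of_comm T.comm v hzN)
        have e : z⁻¹ * (v * z * v⁻¹) = z⁻¹ * v * z * v⁻¹ := by group
        rwa [e] at h4
      have e : v * z * v⁻¹ = z * (z⁻¹ * v * z * v⁻¹) := by group
      rw [e]
      exact mul_mem (h9L hz) (hUL (mem_inf.2 ⟨h2, h3⟩))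
    have h5 : v * x * v⁻¹ ∈ L := key hx
    -- `e_4(1,0)` normalises `L`
    have ha8 : S.e 4 1 0 ∈ J S.XZ 1 8 :=
      X_le_J (X := S.XZ) (k := 8) (by norm_num) (by norm_num) ((mem_X8 S).2 ⟨1, 0, rfl⟩)
    have keya : L ≤ L.comap (MulAut.conj (S.e 4 1 0)).toMonoidHom := by
      rw [hL]
      refine sup_le (fun z hz => conjU _ ha8 z hz) ?_
      intro z hz
      show S.e 4 1 0 * z * (S.e 4 1 0)⁻¹ ∈ L
      obtain ⟨p, u, rfl⟩ := (mem_X0 S).1 hz.1
      have hp : p = 0 := (two_mem_iff S T 0 p u).1 hz.2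
      subst hp
      rcases T.two u with rfl | rfl
      · rw [S.e_zero, mul_one, mul_inv_cancel]
        exact one_mem _
      · exact (two_conj_ab S T hL4 hL0).1
    have e : y * v * x * (y * v)⁻¹ = y * (v * x * v⁻¹) * y⁻¹ := by group
    rw [e]
    obtain ⟨p, u, rfl⟩ := (mem_X8 S).1 hy
    have hz : S.e 4 0 u ∈ L := by
      rcases T.two u with rfl | rfl
      · rw [S.e_zero]; exact one_mem _
      · exact hL4
    rcases T.two p with rfl | rfl
    · exact mul_mem (mul_mem hz h5) (inv_mem hz)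
    · rw [two_e_eq S T]
      have h6 := keya (mul_mem (mul_mem hz h5) (inv_mem hz))
      have e2 : S.e 4 1 0 * S.e 4 0 u * (v * x * v⁻¹) * (S.e 4 1 0 * S.e 4 0 u)⁻¹ =
          S.e 4 1 0 * (S.e 4 0 u * (v * x * v⁻¹) * (S.e 4 0 u)⁻¹) * (S.e 4 1 0)⁻¹ := by group
      rw [e2]
      exact h6

/-! ### the order of `U` -/

omit T in
/-- `|J a b| = |X_a| |J (a+1) b|` -/
theorem card_J_step {a b : ℤ} (hab : a ≤ b) (hb : b < a + 8) :
    Nat.card (J S.XZ a b) = Nat.card (S.XZ a) * Nat.card (J S.XZ (a + 1) b) := by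
  have Z := S.zsys8
  rw [← Nat.card_prod]
  let f : ↥(S.XZ a) × ↥(J S.XZ (a + 1) b) → ↥(J S.XZ a b) := fun x =>
    ⟨x.1 * x.2, (J S.XZ a b).mul_mem (X_le_J le_rfl hab x.1.2) (J_mono (by omega) le_rfl x.2.2)⟩
  refine (Nat.card_congr (Equiv.ofBijective f ⟨?_, ?_⟩)).symm
  · rintro ⟨⟨x, hx⟩, ⟨y, hy⟩⟩ ⟨⟨x', hx'⟩, ⟨y', hy'⟩⟩ h
    have h1 : x * y = x' * y' := congrArg Subtype.val h
    have h2 : x'⁻¹ * x = y' * y⁻¹ := by
      rw [inv_mul_eq_iff_eq_mul, ← mul_assoc, ← h1]; group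
    have h3 : x'⁻¹ * x = 1 := by
      refine Z.inter a _ (mul_mem (inv_mem hx') hx) ?_
      rw [h2]
      exact J_mono le_rfl (by omega) ((J S.XZ (a + 1) b).mul_mem hy' ((J S.XZ (a + 1) b).inv_mem hy))
    have h4 : x = x' := (inv_mul_eq_one.1 h3).symm
    subst h4
    have h5 : y = y' := mul_left_cancel h1
    subst h5
    rfl
  · rintro ⟨g, hg⟩
    obtain ⟨x, hx, y, hy, rfl⟩ := Z.split_ll hab hb hg
    exact ⟨⟨⟨x, hx⟩, ⟨y, hy⟩⟩, rfl⟩

theorem two_card_F : Nat.card F = 2 := by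
  have : Nat.card F = Nat.card Bool := by
    refine Nat.card_congr (Equiv.ofBijective (fun x : F => (open Classical in if x = 0 then false else true)) ⟨?_, ?_⟩)
    · intro x y h
      rcases T.two x with rfl | rfl <;> rcases T.two y with rfl | rfl <;> simp_all
    · intro b
      cases b
      · exact ⟨0, by simp⟩
      · exact ⟨1, by simp⟩
  rw [this]
  simp

theorem two_card_odd (a : ℤ) : Nat.card (S.XZ (2 * a + 1)) = 2 := by
  rw [← two_card_F S T]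
  refine (Nat.card_congr (Equiv.ofBijective (fun t : F => (⟨S.o (a : ZMod 8) t, S.o_mem a t⟩ : ↥(S.XZ (2 * a + 1)))) ⟨?_, ?_⟩)).symm
  · intro t s h
    exact S.injO _ (congrArg Subtype.val h)
  · rintro ⟨g, hg⟩
    obtain ⟨t, rfl⟩ := (S.mem_XZ_odd a g).1 hg
    exact ⟨t, rfl⟩

theorem two_card_even (a : ℤ) : Nat.card (S.XZ (2 * a)) = 4 := by
  have h : Nat.card (F × F) = 4 := by rw [Nat.card_prod, two_card_F S T]
  rw [← h]
  refine (Nat.card_congr (Equiv.ofBijective (fun t : F × F => (⟨S.e (a : ZMod 8) t.1 t.2, S.e_mem a t.1 t.2⟩ :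
    ↥(S.XZ (2 * a)))) ⟨?_, ?_⟩)).symm
  · rintro ⟨p, u⟩ ⟨q, v⟩ h
    obtain ⟨rfl, rfl⟩ := S.injE _ _ _ _ _ (congrArg Subtype.val h)
    rfl
  · rintro ⟨g, hg⟩
    obtain ⟨p, u, rfl⟩ := (S.mem_XZ_even a g).1 hg
    exact ⟨(p, u), rfl⟩

theorem two_card_U : Nat.card (J S.XZ 1 8) = 2 ^ 12 := by
  have e1 := card_J_step S (a := 1) (b := 8) (by norm_num) (by norm_num)
  have e2 := card_J_step S (a := 2) (b := 8) (by norm_num) (by norm_num)
  have e3 := card_J_step S (a := 3) (b := 8) (by norm_num) (by norm_num)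
  have e4 := card_J_step S (a := 4) (b := 8) (by norm_num) (by norm_num)
  have e5 := card_J_step S (a := 5) (b := 8) (by norm_num) (by norm_num)
  have e6 := card_J_step S (a := 6) (b := 8) (by norm_num) (by norm_num)
  have e7 := card_J_step S (a := 7) (b := 8) (by norm_num) (by norm_num)
  have e8 : Nat.card (J S.XZ 8 8) = Nat.card (S.XZ 8) := by rw [J_self]
  norm_num at e1 e2 e3 e4 e5 e6 e7
  have c1 := two_card_odd S T 0
  have c3 := two_card_odd S T 1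
  have c5 := two_card_odd S T 2
  have c7 := two_card_odd S T 3
  have c2 := two_card_even S T 1
  have c4 := two_card_even S T 2
  have c6 := two_card_even S T 3
  have c8 := two_card_even S T 4
  norm_num at c1 c2 c3 c4 c5 c6 c7 c8
  rw [e1, e2, e3, e4, e5, e6, e7, e8, c1, c2, c3, c4, c5, c6, c7, c8]
  norm_num

/-- **`U ∩ N` is a Sylow 2-subgroup of `N`** -/
theorem two_index [Finite G] (hidx : N.index = 2) {m : ℕ} (hm : Odd m) (hcard : Nat.card N = 2 ^ 11 * m) :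
    ¬ 2 ∣ ((J S.XZ 1 8).subgroupOf N).index := by
  have h1 : Nat.card ↥(J S.XZ 1 8 ⊓ N) * (J S.XZ 1 8 ⊓ N).relIndex (J S.XZ 1 8) = 2 ^ 12 := by
    have := Subgroup.relIndex_mul_relIndex ⊥ (J S.XZ 1 8 ⊓ N) (J S.XZ 1 8) bot_le inf_le_left
    rw [relIndex_bot_left, relIndex_bot_left, two_card_U S T] at this
    exact this
  have h2 : (J S.XZ 1 8 ⊓ N).relIndex (J S.XZ 1 8) ∣ 2 := by
    rw [inf_relIndex_left, ← hidx]
    have : N.Normal := ⟨fun x hx g => conj_mem_of_comm T.comm g hx⟩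
    exact Subgroup.relIndex_dvd_index_of_normal N _
  have h3 : Nat.card ↥(J S.XZ 1 8 ⊓ N) * ((J S.XZ 1 8).subgroupOf N).index = 2 ^ 11 * m := by
    have h4 : Nat.card ↥((J S.XZ 1 8).subgroupOf N) = Nat.card ↥(J S.XZ 1 8 ⊓ N) := by
      rw [← Nat.card_congr (Subgroup.subgroupOfEquivOfLe (H := J S.XZ 1 8 ⊓ N) (K := N) inf_le_right).toEquiv,
        inf_subgroupOf_right]
    rw [← h4, Subgroup.card_mul_index, hcard]
  intro h4
  have h5 : 2 ^ 11 ∣ Nat.card ↥(J S.XZ 1 8 ⊓ N) := by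
    obtain ⟨k, hk⟩ := h2
    have h6 : Nat.card ↥(J S.XZ 1 8 ⊓ N) * (J S.XZ 1 8 ⊓ N).relIndex (J S.XZ 1 8) * k = 2 ^ 12 * k := by rw [h1]
    rw [mul_assoc, ← hk] at h6
    exact ⟨k, by omega⟩
  obtain ⟨c, hc⟩ := h5
  obtain ⟨d, hd⟩ := h4
  rw [hc, hd] at h3
  have h7 : c * (2 * d) = m := by
    have : 2 ^ 11 * (c * (2 * d)) = 2 ^ 11 * m := by rw [← h3]; ring
    exact Nat.eq_of_mul_eq_mul_left (by positivity) this
  rw [← h7] at hm
  exact (Nat.not_even_iff_odd.2 hm) ⟨c * d, by ring⟩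

/-- transfer -/
theorem conj_subgroupOf {P : Subgroup ↥N} {A : Subgroup G} (h : P.map N.subtype ≤ normalizer (A : Set G)) :
    P ≤ normalizer (A.subgroupOf N : Set ↥N) := by
  intro g hg
  have h1 := h ⟨g, hg, rfl⟩
  rw [mem_normalizer_iff] at h1 ⊢
  intro x
  exact h1 x

theorem two_dich [Finite F] [Finite G] (hR : S.R.p = 2) (hidx : N.index = 2) {m : ℕ} (hm : Odd m)
    (hcard : Nat.card N = 2 ^ 11 * m) : Dich 2 ↥N := by
  have hfact : Fact (Nat.Prime 2) := ⟨Nat.prime_two⟩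
  have hU2 : IsPGroup 2 (J S.XZ 1 8) :=
    isPGroup_J S.zsys8 (two_X S hR) 8 1 8 (by norm_num) (by norm_num)
  refine ⟨(J S.XZ 1 8).subgroupOf N, hU2.comap_of_injective N.subtype N.subtype_injective,
    two_index S T hidx hm hcard, fun P hP => ?_⟩
  have hM : J S.XZ 1 8 ⊓ N ≤ P.map N.subtype := by
    intro x hx
    exact ⟨⟨x, hx.2⟩, hP hx.1, rfl⟩
  have key : ∀ a b : ℤ, a ≤ 3 → 3 ≤ b → 1 ≤ a → b ≤ 8 → P.map N.subtype ≤ normalizer (J S.XZ a b : Set G) →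
      ∃ V : Subgroup ↥N, V ≠ ⊥ ∧ IsPGroup 2 V ∧ V ≤ P ∧ P ≤ normalizer (V : Set ↥N) := by
    intro a b ha hb ha1 hb8 h
    have hle : J S.XZ a b ≤ J S.XZ 1 8 := J_mono ha1 hb8
    refine ⟨(J S.XZ a b).subgroupOf N, ?_, (hU2.to_le hle).comap_of_injective N.subtype N.subtype_injective,
      fun x hx => hP (hle hx), conj_subgroupOf S T h⟩
    intro hbot
    have h1 : S.o 1 1 ∈ J S.XZ a b := X_le_J (X := S.XZ) (k := 3) ha hb ((mem_X3 S).2 ⟨1, rfl⟩)
    have h2 : (⟨S.o 1 1, two_o_mem S T 1 1⟩ : ↥N) ∈ (J S.XZ a b).subgroupOf N := h1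
    rw [hbot, mem_bot] at h2
    exact one_ne_zero (S.o_eq_one (congrArg Subtype.val h2))
  rcases overgroup (two_cond S T) hM with h | h | h
  · left
    rw [eq_top_iff]
    intro x _
    obtain ⟨y, hy, e⟩ := h x.2
    have : y = x := Subtype.ext e
    rwa [← this]
  · exact Or.inr (key 2 8 (by norm_num) (by norm_num) (by norm_num) (by norm_num) h)
  · exact Or.inr (key 1 7 (by norm_num) (by norm_num) (by norm_num) (by norm_num) h)

end Cfsg.Agent.H248.TwF4Over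

namespace Cfsg.Agent.H248.TitsDich

open Cfsg Cfsg.Lie Cfsg.Agent.H248.TwF4Over Cfsg.Agent.H248.Ovg Cfsg.Agent.KFacts.TwF4

/-- **the Tits group** -/
theorem dich_tits {X : Type*} [Group X] [Finite X] (h : IsoTits X) : Dich 2 X := by
  obtain ⟨e⟩ := h
  have hfact : Fact (Nat.Prime 2) := ⟨Nat.prime_two⟩
  obtain ⟨hidx, hs, hna, hcard⟩ := Cfsg.Agent.S1074.result
  have hK : Fintype.card (ZMod 2) = 2 ^ (2 * 0 + 1) := by rw [ZMod.card]; rfl
  obtain ⟨φ, hφ⟩ := Cfsg.Agent.ChevalleyStructure.TwF4.TwistedFix.exists_rln hK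
  obtain ⟨S, hS⟩ : ∃ S : Full φ ↥(twistedF4 (ZMod 2) 1), S.R.p = 2 := by
    have h0 : ∃ S : Full φ ↥(twistedF4 (ZMod 2) (2 ^ 0)), S.R.p = 2 :=
      ⟨Cfsg.Agent.KFacts.TwF4.Inst.full hK hφ, rfl⟩
    rw [pow_zero] at h0
    exact h0
  have T : Two (ZMod 2) (commutator ↥(twistedF4 (ZMod 2) 1)) := by
    refine ⟨?_, le_rfl, ?_⟩
    · intro x
      fin_cases x
      · exact Or.inl rfl
      · exact Or.inr rfl
    · intro h1
      rw [h1, Subgroup.index_top] at hidx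
      norm_num at hidx
  have hfin : Finite ↥(twistedF4 (ZMod 2) 1) := inferInstance
  obtain ⟨m, hm⟩ : ∃ m : ℕ, m = 3 ^ 3 * 5 ^ 2 * 13 := ⟨_, rfl⟩
  have hodd : Odd m := ⟨4387, by rw [hm]; norm_num⟩
  have hc2 : Nat.card TitsGroup = 2 ^ 11 * m := by rw [hcard, hm, mul_assoc, mul_assoc, mul_assoc]
  have h1 := @two_dich (ZMod 2) _ φ _ _ S _ T inferInstance hfin hS hidx _ hodd hc2
  have hfin2 : Finite ↥(commutator ↥(twistedF4 (ZMod 2) 1)) := Finite.of_equiv _ e.toEquiv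
  have e' := e.symm
  have h2 := @Dich.of_equiv 2 TitsGroup _ X _ hfin2 _ hfact e'
  exact h2 h1

end Cfsg.Agent.H248.TitsDich
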