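import Mathlib
import Cfsg.Prelude.Def_Solvable
import Cfsg.Prelude.Def_Classical
import Cfsg.Agent.H248.Dich
import Cfsg.Agent.Lib.Cores
import Cfsg.Agent.S0044
import Cfsg.Agent.S0144
import Cfsg.Agent.S0283
import Cfsg.Agent.Classification.SimpleIndex
import Cfsg.Agent.Classification.RTwo.UThreeThree
import Cfsg.Agent.SmallSimple.Simple504
import Cfsg.Agent.SmallSimple.S1000.PSLFacts
import Cfsg.Agent.SignalizersComponents.BalEndSz
import Cfsg.Agent.TwoFusion.StarLemma
import Cfsg.Agent.TwoFusion.SLTwoFacts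
import Cfsg.Prelude.Def_EvenType
import Cfsg.Agent.Nodes.RGDLie
import Cfsg.Agent.H248.DichRGD
import Cfsg.Agent.H248.RankOneFam
import Cfsg.Agent.H248.TwF4Dich
import Cfsg.Agent.H248.TitsDich
set_option linter.all false

-- part: H248/SmallDich
section
/-!
# The dichotomy for the small groups `A₆`, `U₃(3)` (`p = 2`) and `L₂(8)` (`p = 3`) (helper248)

A proper subgroup `M` of index prime to `p` is solvable here; if `O_p(M) = 1`, then a Sylow `p`-subgroup acts faithfully on
the Fitting subgroup of `M`, a small `p'`-group.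
-/

set_option autoImplicit false

namespace Cfsg.Agent.H248.Ovg

open Subgroup Cfsg

section General

variable {M : Type*} [Group M] [Finite M] {p : ℕ} [Fact p.Prime]

/-- the Fitting subgroup of a finite group with `O_p = 1` is a `p'`-group -/
theorem not_dvd_card_fitting (h : pCore p M = ⊥) : ¬ p ∣ Nat.card ↥(fittingSubgroup M) := by
  intro hd
  have hn : Group.IsNilpotent ↥(fittingSubgroup M) := Lib.Cores.fittingSubgroup_isNilpotent
  obtain ⟨P⟩ : Nonempty (Sylow p ↥(fittingSubgroup M)) := inferInstance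
  have hP : (P : Subgroup ↥(fittingSubgroup M)).Normal :=
    ((Group.isNilpotent_of_finite_tfae (G := ↥(fittingSubgroup M))).out 0 3 rfl rfl : _ ↔ _).1 hn p inferInstance P
  have h1 : (P : Subgroup ↥(fittingSubgroup M)) ≤ pCore p ↥(fittingSubgroup M) := Lib.Cores.le_pCore hP P.isPGroup'
  have h2 : (pCore p ↥(fittingSubgroup M)).map (fittingSubgroup M).subtype = ⊥ := by
    rw [Lib.Cores.map_subtype_pCore p Lib.Cores.fittingSubgroup_normal, h, inf_bot_eq]
  have h3 : pCore p ↥(fittingSubgroup M) = ⊥ := (Subgroup.map_eq_bot_iff_of_injective _ (subtype_injective _)).1 h2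
  rw [h3, le_bot_iff] at h1
  exact P.ne_bot_of_dvd_card hd h1

/-- a subgroup with trivial intersection with the centraliser of `x` is not larger than a set containing its orbit -/
theorem card_le_of_orbit {S : Subgroup M} {x : M} (hx : ∀ s ∈ S, s * x * s⁻¹ = x → s = 1) {X : Set M}
    (hX : ∀ s ∈ S, s * x * s⁻¹ ∈ X) : Nat.card ↥S ≤ Nat.card ↥X := by
  refine Nat.card_le_card_of_injective (fun s : ↥S => (⟨s * x * (s : M)⁻¹, hX s s.2⟩ : ↥X)) ?_
  intro s t hst
  have e : (s : M) * x * (s : M)⁻¹ = t * x * (t : M)⁻¹ := congrArg Subtype.val hst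
  have h1 : ((t : M)⁻¹ * s) * x * ((t : M)⁻¹ * s)⁻¹ = x := by
    calc ((t : M)⁻¹ * s) * x * ((t : M)⁻¹ * s)⁻¹ = (t : M)⁻¹ * (s * x * (s : M)⁻¹) * t := by group
      _ = (t : M)⁻¹ * (t * x * (t : M)⁻¹) * t := by rw [e]
      _ = x := by group
  have h2 := hx _ (S.mul_mem (S.inv_mem t.2) s.2) h1
  exact Subtype.ext (by rw [inv_mul_eq_one] at h2; exact h2.symm)

/-- the same with a divisibility, the action being free on a set -/
theorem card_dvd_of_orbit {S : Subgroup M} {X : Set M} (hx : ∀ s ∈ S, ∀ x ∈ X, s * x * s⁻¹ = x → s = 1)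
    (hX : ∀ s ∈ S, ∀ x ∈ X, s * x * s⁻¹ ∈ X) : Nat.card ↥S ∣ Nat.card ↥X := by
  let _ : MulAction ↥S ↥X :=
    { smul := fun s x => ⟨s * x * (s : M)⁻¹, hX s s.2 x x.2⟩
      one_smul := fun x => Subtype.ext (by change (1 : M) * x * (1 : M)⁻¹ = x; simp)
      mul_smul := fun s t x => Subtype.ext (by
        change ((s : M) * t) * x * ((s : M) * t)⁻¹ = s * (t * x * (t : M)⁻¹) * (s : M)⁻¹; group) }
  refine TwoFusion.StarLemma.card_dvd_of_free fun s x h => ?_
  exact Subtype.ext (hx s s.2 x x.2 (congrArg Subtype.val h))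

/-- a `p`-subgroup meets the Fitting subgroup trivially -/
theorem eq_one_of_mem_fitting (h : pCore p M = ⊥) {S : Subgroup M} (hS : IsPGroup p S) {s : M} (hs : s ∈ S)
    (hF : s ∈ fittingSubgroup M) : s = 1 := by
  have h1 := not_dvd_card_fitting h
  obtain ⟨k, hk⟩ := hS ⟨s, hs⟩
  have h2 : s ^ p ^ k = 1 := congrArg Subtype.val hk
  have h3 : orderOf s ∣ p ^ k := orderOf_dvd_of_pow_eq_one h2
  have h4 : orderOf s ∣ Nat.card ↥(fittingSubgroup M) := by
    have := orderOf_dvd_natCard (⟨s, hF⟩ : ↥(fittingSubgroup M))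
    rwa [Subgroup.orderOf_mk] at this
  have h5 : Nat.Coprime (p ^ k) (Nat.card ↥(fittingSubgroup M)) :=
    Nat.Coprime.pow_left _ ((Nat.Prime.coprime_iff_not_dvd Fact.out).2 h1)
  exact orderOf_eq_one_iff.1 (Nat.dvd_one.1 (h5 ▸ Nat.dvd_gcd h3 h4))

/-- an element of a `p`-subgroup centralising the Fitting subgroup is trivial -/
theorem eq_one_of_centralizes [Group.IsSolvable M] (h : pCore p M = ⊥) {S : Subgroup M} (hS : IsPGroup p S) {s : M}
    (hs : s ∈ S) (hc : ∀ f ∈ fittingSubgroup M, s * f * s⁻¹ = f) : s = 1 := by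
  refine eq_one_of_mem_fitting h hS hs (S0044.result ?_)
  rw [mem_centralizer_iff]
  intro f hf
  have := hc f hf
  rw [mul_inv_eq_iff_eq_mul] at this
  exact this.symm

omit [Finite M] in
theorem card_diff_singleton (F : Subgroup M) : Nat.card ↥((F : Set M) \ {1}) = Nat.card ↥F - 1 := by
  rw [Nat.card_coe_set_eq, Set.ncard_sdiff_singleton_of_mem F.one_mem, ← Nat.card_coe_set_eq]
  rfl

/-- **the cyclic case** -/
theorem card_lt_of_cyclic [Group.IsSolvable M] (h : pCore p M = ⊥) {S : Subgroup M} (hS : IsPGroup p S)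
    (hS1 : 1 < Nat.card ↥S) (hF : IsCyclic ↥(fittingSubgroup M)) : Nat.card ↥S < Nat.card ↥(fittingSubgroup M) := by
  obtain ⟨⟨x, hxF⟩, hx⟩ := hF.exists_generator
  have hfree : ∀ s ∈ S, s * x * s⁻¹ = x → s = 1 := by
    intro s hs e
    refine eq_one_of_centralizes h hS hs fun f hf => ?_
    obtain ⟨k, hk⟩ := hx ⟨f, hf⟩
    have hk' : x ^ k = f := congrArg Subtype.val hk
    rw [← hk', ← conj_zpow, e]
  have hx1 : x ≠ 1 := by
    rintro rfl
    have : S = ⊥ := by
      rw [eq_bot_iff]
      intro s hs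
      exact hfree s hs (by simp)
    rw [this, Subgroup.card_bot] at hS1
    exact lt_irrefl _ hS1
  have h1 := card_le_of_orbit (X := ((fittingSubgroup M : Subgroup M) : Set M) \ {1}) hfree fun s _ =>
    ⟨Lib.Cores.fittingSubgroup_normal.conj_mem _ hxF s, fun e => hx1 (conj_eq_one_iff.1 e)⟩
  rw [card_diff_singleton] at h1
  have : 0 < Nat.card ↥(fittingSubgroup M) := Nat.card_pos
  omega

/-- **the Fitting subgroup of order 9** -/
theorem card_le_of_nine [Group.IsSolvable M] (h : pCore 2 M = ⊥) {S : Subgroup M} (hS : IsPGroup 2 S)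
    (hF : Nat.card ↥(fittingSubgroup M) = 9) : Nat.card ↥S ≤ 16 := by
  by_cases hc : IsCyclic ↥(fittingSubgroup M)
  · rcases Nat.lt_or_ge 1 (Nat.card ↥S) with h1 | h1
    · have := card_lt_of_cyclic h hS h1 hc
      omega
    · omega
  -- every nontrivial element has order 3
  have h3 : ∀ x ∈ fittingSubgroup M, x ≠ 1 → orderOf x = 3 := by
    intro x hx hx1
    have h1 : orderOf x ∣ 9 := by
      have := orderOf_dvd_natCard (⟨x, hx⟩ : ↥(fittingSubgroup M))
      rwa [Subgroup.orderOf_mk, hF] at this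
    have h2 : orderOf x ≠ 9 := by
      intro h2
      apply hc
      exact isCyclic_of_orderOf_eq_card (⟨x, hx⟩ : ↥(fittingSubgroup M)) (by rw [Subgroup.orderOf_mk, h2, hF])
    have h4 : orderOf x ≠ 1 := fun e => hx1 (orderOf_eq_one_iff.1 e)
    have h5 : orderOf x ∣ 3 ^ 2 := h1
    obtain ⟨k, hk, e⟩ := (Nat.dvd_prime_pow Nat.prime_three).1 h5
    interval_cases k
    · exact (h4 e).elim
    · exact e
    · exact (h2 e).elim
  obtain ⟨x, hxF, hx1⟩ : ∃ x ∈ fittingSubgroup M, x ≠ 1 := by
    by_contra hcon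
    push Not at hcon
    have : fittingSubgroup M = ⊥ := by
      rw [eq_bot_iff]
      exact fun x hx => hcon x hx
    rw [this, Subgroup.card_bot] at hF
    omega
  -- the centraliser of `x` in `S`
  let T : Subgroup M := S ⊓ centralizer {x}
  have hTx : ∀ t ∈ T, t * x * t⁻¹ = x := by
    intro t ht
    have := mem_centralizer_singleton_iff.1 ht.2
    rw [mul_inv_eq_iff_eq_mul]
    exact this
  let X : Set M := (fittingSubgroup M : Set M) \ (zpowers x : Set M)
  have hle : zpowers x ≤ fittingSubgroup M := by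
    rw [zpowers_le]
    exact hxF
  have hX : Nat.card ↥X = 6 := by
    rw [Nat.card_coe_set_eq, Set.ncard_sdiff hle (Set.toFinite _)]
    have e1 : ((fittingSubgroup M : Subgroup M) : Set M).ncard = 9 := by rw [← Nat.card_coe_set_eq]; exact hF
    have e2 : ((zpowers x : Subgroup M) : Set M).ncard = 3 := by
      rw [← Nat.card_coe_set_eq, ← h3 x hxF hx1]
      exact Nat.card_zpowers x
    omega
  have hd : Nat.card ↥T ∣ 6 := by
    rw [← hX]
    refine card_dvd_of_orbit ?_ ?_
    · intro t ht y hy e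
      refine eq_one_of_centralizes h hS ht.1 ?_
      -- the elements of `F` centralised by `t`
      have hlt : zpowers x < fittingSubgroup M ⊓ centralizer {t} := by
        refine lt_of_le_of_ne (le_inf hle ?_) ?_
        · rw [zpowers_le, mem_centralizer_singleton_iff]
          have := hTx t ht
          rw [mul_inv_eq_iff_eq_mul] at this
          exact this.symm
        · intro e'
          apply hy.2
          change y ∈ zpowers x
          rw [e']
          refine ⟨hy.1, mem_centralizer_singleton_iff.2 ?_⟩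
          rw [mul_inv_eq_iff_eq_mul] at e
          exact e.symm
      have h5 : Nat.card ↥(fittingSubgroup M ⊓ centralizer {t} : Subgroup M) ∣ 3 ^ 2 := by
        have := Subgroup.card_dvd_of_le (inf_le_left : fittingSubgroup M ⊓ centralizer {t} ≤ fittingSubgroup M)
        rwa [hF] at this
      have h6 : 3 < Nat.card ↥(fittingSubgroup M ⊓ centralizer {t} : Subgroup M) := by
        have h7 := Set.ncard_lt_ncard (SetLike.coe_ssubset_coe.2 hlt) (Set.toFinite _)
        rw [← Nat.card_coe_set_eq, ← Nat.card_coe_set_eq] at h7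
        have h8 : Nat.card ↥(zpowers x) = 3 := by rw [Nat.card_zpowers, h3 x hxF hx1]
        exact h8 ▸ h7
      obtain ⟨k, hk, e9⟩ := (Nat.dvd_prime_pow Nat.prime_three).1 h5
      have hk2 : k = 2 := by
        interval_cases k
        · omega
        · omega
        · rfl
      subst hk2
      have h10 : fittingSubgroup M ⊓ centralizer {t} = fittingSubgroup M :=
        Subgroup.eq_of_le_of_card_ge inf_le_left (by rw [e9, hF]; norm_num)
      intro f hf
      have h11 : f ∈ fittingSubgroup M ⊓ centralizer {t} := by rw [h10]; exact hf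
      have h12 := mem_centralizer_singleton_iff.1 h11.2
      rw [mul_inv_eq_iff_eq_mul]
      exact h12.symm
    · intro t ht y hy
      refine ⟨Lib.Cores.fittingSubgroup_normal.conj_mem _ hy.1 t, ?_⟩
      rintro ⟨k, hk⟩
      apply hy.2
      refine ⟨k, ?_⟩
      have hk' : x ^ k = t * y * t⁻¹ := hk
      have h5 : (t * x * t⁻¹) ^ k = t * y * t⁻¹ := by rw [hTx t ht]; exact hk'
      rw [conj_zpow] at h5
      exact mul_left_cancel (mul_right_cancel h5)
  have hT2 : Nat.card ↥T ≤ 2 := by
    have hTp : IsPGroup 2 ↥T := hS.to_le inf_le_left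
    obtain ⟨k, hk⟩ := IsPGroup.iff_card.1 hTp
    rw [hk] at hd ⊢
    rcases k with _ | _ | k
    · norm_num
    · norm_num
    · exfalso
      have : 2 ^ 2 ∣ 6 := (pow_dvd_pow 2 (by omega)).trans hd
      omega
  -- the orbit of `x`
  let _ : MulAction ↥S ↥((fittingSubgroup M : Set M) \ {1}) :=
    { smul := fun s y => ⟨s * y * (s : M)⁻¹, Lib.Cores.fittingSubgroup_normal.conj_mem _ y.2.1 s,
        fun e => y.2.2 (conj_eq_one_iff.1 e)⟩
      one_smul := fun x => Subtype.ext (by change (1 : M) * x * (1 : M)⁻¹ = x; simp)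
      mul_smul := fun s t x => Subtype.ext (by
        change ((s : M) * t) * x * ((s : M) * t)⁻¹ = s * (t * x * (t : M)⁻¹) * (s : M)⁻¹; group) }
  let x' : ↥((fittingSubgroup M : Set M) \ {1}) := ⟨x, hxF, hx1⟩
  have h5 : Nat.card ↥(MulAction.stabilizer ↥S x') ≤ Nat.card ↥T := by
    refine Nat.card_le_card_of_injective
      (fun s => (⟨(s : ↥S), (s : ↥S).2, mem_centralizer_singleton_iff.2
        (mul_inv_eq_iff_eq_mul.1 (congrArg Subtype.val s.2))⟩ : ↥T)) ?_
    · intro s t e
      exact Subtype.ext (Subtype.ext (congrArg (fun z : ↥T => (z : M)) e))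
  have h6 : Nat.card ↥(MulAction.orbit ↥S x') ≤ 8 := by
    have h7 := Nat.card_le_card_of_injective (fun y : ↥(MulAction.orbit ↥S x') => (y : ↥((fittingSubgroup M : Set M) \ {1})))
      Subtype.val_injective
    rw [card_diff_singleton, hF] at h7
    exact h7
  have h7 : Nat.card ↥(MulAction.orbit ↥S x') * Nat.card ↥(MulAction.stabilizer ↥S x') = Nat.card ↥S := by
    rw [← Nat.card_prod]
    exact Nat.card_congr (MulAction.orbitProdStabilizerEquivGroup ↥S x')
  rw [← h7]
  calc _ ≤ 8 * 2 := Nat.mul_le_mul h6 (h5.trans hT2)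
    _ = 16 := rfl

theorem card_fitting_dvd (h : pCore p M = ⊥) {a r : ℕ} (hcard : Nat.card M = p ^ a * r) :
    Nat.card ↥(fittingSubgroup M) ∣ r := by
  have h1 : Nat.card ↥(fittingSubgroup M) ∣ p ^ a * r := by
    rw [← hcard]
    exact Subgroup.card_subgroup_dvd_card _
  refine Nat.Coprime.dvd_of_dvd_mul_left ?_ h1
  exact (Nat.Coprime.pow_left a ((Nat.Prime.coprime_iff_not_dvd Fact.out).2 (not_dvd_card_fitting h))).symm

theorem exists_sylow_card {a r : ℕ} (hcard : Nat.card M = p ^ a * r) (hr : ¬ p ∣ r) :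
    ∃ S : Subgroup M, IsPGroup p ↥S ∧ Nat.card ↥S = p ^ a := by
  obtain ⟨S⟩ : Nonempty (Sylow p M) := inferInstance
  refine ⟨S, S.isPGroup', ?_⟩
  rw [S.card_eq_multiplicity, hcard]
  congr 1
  have hr0 : r ≠ 0 := by rintro rfl; exact hr (dvd_zero _)
  have hp : p.Prime := Fact.out
  rw [Nat.factorization_mul (pow_ne_zero _ hp.ne_zero) hr0, Finsupp.add_apply, Nat.factorization_pow,
    Finsupp.smul_apply, hp.factorization_self, Nat.factorization_eq_zero_of_not_dvd hr]
  simp

theorem false_of_prime [Group.IsSolvable M] (h : pCore p M = ⊥) {a r : ℕ} (hcard : Nat.card M = p ^ a * r)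
    (hr : r = 1 ∨ r.Prime) (hpr : ¬ p ∣ r) (hlt : r ≤ p ^ a) (ha : 1 < p ^ a) : False := by
  obtain ⟨S, hS, hSc⟩ := exists_sylow_card hcard hpr
  have h1 := card_fitting_dvd h hcard
  have hc : IsCyclic ↥(fittingSubgroup M) := by
    rcases hr with rfl | hr
    · rw [Nat.dvd_one, Subgroup.card_eq_one] at h1
      rw [h1]
      infer_instance
    · rcases (Nat.dvd_prime hr).1 h1 with h2 | h2
      · rw [Subgroup.card_eq_one] at h2
        rw [h2]
        infer_instance
      · have : Fact r.Prime := ⟨hr⟩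
        exact isCyclic_of_prime_card h2
  have h2 := card_lt_of_cyclic h hS (by rw [hSc]; exact ha) hc
  have h3 : Nat.card ↥(fittingSubgroup M) ≤ r :=
    Nat.le_of_dvd (Nat.pos_of_ne_zero (by rintro rfl; exact hpr (dvd_zero _))) h1
  omega

theorem false_of_nine [Group.IsSolvable M] (h : pCore 2 M = ⊥) (hcard : Nat.card M = 2 ^ 5 * 9) : False := by
  obtain ⟨S, hS, hSc⟩ := exists_sylow_card (p := 2) hcard (by norm_num)
  have h1 : Nat.card ↥(fittingSubgroup M) ∣ 3 ^ 2 := card_fitting_dvd h hcard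
  obtain ⟨k, hk, e⟩ := (Nat.dvd_prime_pow Nat.prime_three).1 h1
  have hcyc : k ≤ 1 → False := by
    intro hk1
    have hc : IsCyclic ↥(fittingSubgroup M) := by
      interval_cases k
      · rw [pow_zero, Subgroup.card_eq_one] at e
        rw [e]
        infer_instance
      · have : Fact (Nat.Prime 3) := ⟨Nat.prime_three⟩
        exact isCyclic_of_prime_card (p := 3) (by rw [e]; norm_num)
    have h2 := card_lt_of_cyclic h hS (by rw [hSc]; norm_num) hc
    have h3 : (3 : ℕ) ^ k ≤ 3 ^ 1 := Nat.pow_le_pow_right (by norm_num) hk1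
    rw [hSc, e] at h2
    omega
  have hk2 : k = 2 := by
    by_contra hne
    exact hcyc (by omega)
  subst hk2
  have h2 := card_le_of_nine h hS (by rw [e]; norm_num)
  rw [hSc] at h2
  omega

end General

/-! ### `A₆` -/

theorem not_isMulCommutative_of_card {K : Type*} [Group K] [Finite K] [IsSimpleGroup K]
    (h : ¬ (Nat.card K).Prime) : ¬ IsMulCommutative K := by
  intro hc
  apply h
  let _ : CommGroup K := { (inferInstance : Group K) with mul_comm := hc.is_comm.comm }
  exact IsSimpleGroup.prime_card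

theorem eq_top_of_360 {K : Type*} [Group K] [Finite K] [IsSimpleGroup K] (hK : Nat.card K = 360) (M : Subgroup K)
    (hM : pCore 2 ↥M = ⊥) (hidx : ¬ 2 ∣ M.index) : M = ⊤ := by
  by_contra hne
  have h1 := Classification.SimpleIndex.two_mul_card_dvd_factorial_index
    (not_isMulCommutative_of_card (K := K) (by rw [hK]; norm_num)) M hne
  rw [hK] at h1
  have h2 : Nat.card ↥M * M.index = 360 := by rw [Subgroup.card_mul_index, hK]
  have h3 : M.index ∣ 45 := by
    have : M.index ∣ 2 ^ 3 * 45 := ⟨Nat.card ↥M, by rw [mul_comm] at h2; omega⟩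
    refine Nat.Coprime.dvd_of_dvd_mul_left ?_ this
    exact (Nat.Coprime.pow_left 3 ((Nat.Prime.coprime_iff_not_dvd Nat.prime_two).2 hidx)).symm
  have h4 : M.index ∈ Nat.divisors 45 := Nat.mem_divisors.2 ⟨h3, by norm_num⟩
  have h5 : Nat.divisors 45 = {1, 3, 5, 9, 15, 45} := by decide +kernel
  rw [h5] at h4
  simp only [Finset.mem_insert, Finset.mem_singleton] at h4
  rcases h4 with h4 | h4 | h4 | h4 | h4 | h4
  · exact hne (Subgroup.index_eq_one.1 h4)
  · rw [h4] at h1
    exact absurd h1 (by decide)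
  · rw [h4] at h1
    exact absurd h1 (by decide)
  · have h6 : Nat.card ↥M = 2 ^ 3 * 5 := by rw [h4] at h2; omega
    have : Group.IsSolvable ↥M := S0144.result 2 5 3 1 Nat.prime_two (by norm_num) (by rw [h6]; norm_num)
    exact false_of_prime hM h6 (Or.inr (by norm_num)) (by norm_num) (by norm_num) (by norm_num)
  · have h6 : Nat.card ↥M = 2 ^ 3 * 3 := by rw [h4] at h2; omega
    have : Group.IsSolvable ↥M := S0144.result 2 3 3 1 Nat.prime_two (by norm_num) (by rw [h6]; norm_num)
    exact false_of_prime hM h6 (Or.inr (by norm_num)) (by norm_num) (by norm_num) (by norm_num)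
  · have h6 : Nat.card ↥M = 2 ^ 3 * 1 := by rw [h4] at h2; omega
    have : Group.IsSolvable ↥M := S0144.result 2 3 3 0 Nat.prime_two (by norm_num) (by rw [h6]; norm_num)
    exact false_of_prime hM h6 (Or.inl rfl) (by norm_num) (by norm_num) (by norm_num)

/-- **the dichotomy for `A₆`** -/
theorem dich_alt_six {K : Type*} [Group K] (h : Nonempty (K ≃* alternatingGroup (Fin 6))) : Dich 2 K := by
  obtain ⟨e⟩ := h
  have : Finite K := Finite.of_equiv _ e.symm.toEquiv
  have : IsSimpleGroup (alternatingGroup (Fin 6)) := alternatingGroup.isSimpleGroup (by simp)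
  have : IsSimpleGroup K := e.isSimpleGroup
  exact Dich.of_eq_top (eq_top_of_360 (by rw [Nat.card_congr e.toEquiv]; exact SmallSimple.PSLFacts.card_alt_six))

/-! ### `U₃(3)` -/

/-- the sign character of a nonabelian simple permutation group is trivial -/
theorem sign_eq_one {K : Type*} [Group K] [IsSimpleGroup K] (hc : ¬ IsMulCommutative K) {X : Type*} [Fintype X]
    [DecidableEq X] (φ : K →* Equiv.Perm X) (g : K) : Equiv.Perm.sign (φ g) = 1 := by
  rcases (MonoidHom.normal_ker (Equiv.Perm.sign.comp φ)).eq_bot_or_eq_top with h | h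
  · exfalso
    apply hc
    refine ⟨⟨fun a b => ?_⟩⟩
    apply (MonoidHom.ker_eq_bot_iff _).1 h
    rw [map_mul, map_mul, mul_comm]
  · have : g ∈ (Equiv.Perm.sign.comp φ).ker := by rw [h]; trivial
    exact this

/-- a permutation of order 8 of at most 9 points is odd -/
theorem sign_of_order_eight {X : Type*} [Fintype X] [DecidableEq X] (hX : Fintype.card X ≤ 9) {σ : Equiv.Perm X}
    (hσ : orderOf σ = 8) : Equiv.Perm.sign σ = -1 := by
  have h8 : 8 ∈ σ.cycleType := by
    by_contra hcon
    have h1 : σ.cycleType.lcm ∣ 4 := by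
      rw [Multiset.lcm_dvd]
      intro b hb
      have hb8 : b ∣ 2 ^ 3 := by
        have := Multiset.dvd_lcm hb
        rw [Equiv.Perm.lcm_cycleType, hσ] at this
        exact this
      obtain ⟨k, hk, rfl⟩ := (Nat.dvd_prime_pow Nat.prime_two).1 hb8
      have hk3 : k ≠ 3 := by
        rintro rfl
        exact hcon hb
      have : (2 : ℕ) ^ k ∣ 2 ^ 2 := pow_dvd_pow 2 (by omega)
      exact this
    rw [Equiv.Perm.lcm_cycleType, hσ] at h1
    omega
  obtain ⟨t, ht⟩ := Multiset.exists_cons_of_mem h8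
  have h1 : σ.cycleType.sum ≤ 9 := by
    rw [Equiv.Perm.sum_cycleType]
    exact (Finset.card_le_univ _).trans hX
  rw [ht, Multiset.sum_cons] at h1
  have ht0 : t = 0 := by
    rw [Multiset.eq_zero_iff_forall_notMem]
    intro b hb
    have h2 : 2 ≤ b := Equiv.Perm.two_le_of_mem_cycleType (by rw [ht]; exact Multiset.mem_cons_of_mem hb)
    have h3 : b ≤ t.sum := Multiset.le_sum_of_mem hb
    omega
  rw [Equiv.Perm.sign_of_cycleType', ht, ht0]
  rfl

/-- a nonabelian simple group with an element of order 8 has no subgroup of index 9 -/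
theorem index_ne_nine {K : Type*} [Group K] [Finite K] [IsSimpleGroup K] (hc : ¬ IsMulCommutative K) {g : K}
    (hg : orderOf g = 8) (M : Subgroup K) : M.index ≠ 9 := by
  classical
  intro h9
  let _ : Fintype (K ⧸ M) := Fintype.ofFinite _
  let φ : K →* Equiv.Perm (K ⧸ M) := MulAction.toPermHom K (K ⧸ M)
  have hinj : Function.Injective φ := by
    rcases (MonoidHom.normal_ker φ).eq_bot_or_eq_top with h | h
    · exact (MonoidHom.ker_eq_bot_iff _).1 h
    · exfalso
      have h1 : M = ⊤ := by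
        rw [eq_top_iff]
        intro x _
        have hx : x ∈ φ.ker := by rw [h]; trivial
        have h2 : φ x ((1 : K) : K ⧸ M) = ((1 : K) : K ⧸ M) := by
          rw [MonoidHom.mem_ker.1 hx]
          rfl
        have h3 : ((x * 1 : K) : K ⧸ M) = ((1 : K) : K ⧸ M) := h2
        rw [mul_one] at h3
        have h4 := QuotientGroup.eq.1 h3
        rw [mul_one] at h4
        exact (M.inv_mem_iff).1 h4
      rw [h1, Subgroup.index_top] at h9
      omega
  have h1 : orderOf (φ g) = 8 := by rw [orderOf_injective φ hinj, hg]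
  have h2 := sign_of_order_eight (σ := φ g) (by
    rw [← Nat.card_eq_fintype_card]
    exact h9.le) h1
  rw [sign_eq_one hc] at h2
  exact absurd h2 (by decide)

theorem eq_top_of_6048 {K : Type*} [Group K] [Finite K] [IsSimpleGroup K] (hK : Nat.card K = 6048) {g : K}
    (hg : orderOf g = 8) (M : Subgroup K) (hM : pCore 2 ↥M = ⊥) (hidx : ¬ 2 ∣ M.index) : M = ⊤ := by
  by_contra hne
  have hc := not_isMulCommutative_of_card (K := K) (by rw [hK]; norm_num)
  have h1 := Classification.SimpleIndex.two_mul_card_dvd_factorial_index hc M hne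
  rw [hK] at h1
  have h2 : Nat.card ↥M * M.index = 6048 := by rw [Subgroup.card_mul_index, hK]
  have h3 : M.index ∣ 189 := by
    have : M.index ∣ 2 ^ 5 * 189 := ⟨Nat.card ↥M, by rw [mul_comm] at h2; omega⟩
    refine Nat.Coprime.dvd_of_dvd_mul_left ?_ this
    exact (Nat.Coprime.pow_left 5 ((Nat.Prime.coprime_iff_not_dvd Nat.prime_two).2 hidx)).symm
  have h4 : M.index ∈ Nat.divisors 189 := Nat.mem_divisors.2 ⟨h3, by norm_num⟩
  have h5 : Nat.divisors 189 = {1, 3, 7, 9, 21, 27, 63, 189} := by decide +kernel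
  rw [h5] at h4
  simp only [Finset.mem_insert, Finset.mem_singleton] at h4
  rcases h4 with h4 | h4 | h4 | h4 | h4 | h4 | h4 | h4
  · exact hne (Subgroup.index_eq_one.1 h4)
  · rw [h4] at h1
    exact absurd h1 (by decide)
  · rw [h4] at h1
    exact absurd h1 (by decide)
  · exact index_ne_nine hc hg M h4
  · have h6 : Nat.card ↥M = 2 ^ 5 * 9 := by rw [h4] at h2; omega
    have : Group.IsSolvable ↥M := S0144.result 2 3 5 2 Nat.prime_two (by norm_num) (by rw [h6]; norm_num)
    exact false_of_nine hM h6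
  · have h6 : Nat.card ↥M = 2 ^ 5 * 7 := by rw [h4] at h2; omega
    have : Group.IsSolvable ↥M := S0144.result 2 7 5 1 Nat.prime_two (by norm_num) (by rw [h6]; norm_num)
    exact false_of_prime hM h6 (Or.inr (by norm_num)) (by norm_num) (by norm_num) (by norm_num)
  · have h6 : Nat.card ↥M = 2 ^ 5 * 3 := by rw [h4] at h2; omega
    have : Group.IsSolvable ↥M := S0144.result 2 3 5 1 Nat.prime_two (by norm_num) (by rw [h6]; norm_num)
    exact false_of_prime hM h6 (Or.inr (by norm_num)) (by norm_num) (by norm_num) (by norm_num)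
  · have h6 : Nat.card ↥M = 2 ^ 5 * 1 := by rw [h4] at h2; omega
    have : Group.IsSolvable ↥M := S0144.result 2 3 5 0 Nat.prime_two (by norm_num) (by rw [h6]; norm_num)
    exact false_of_prime hM h6 (Or.inl rfl) (by norm_num) (by norm_num) (by norm_num)

open Classification.RTwo.UThreeThree in
/-- a unitary matrix of order 8 -/
def matH : Matrix (Fin 3) (Fin 3) K9 :=
  !![⟨0, 1⟩, ⟨0, 0⟩, ⟨0, 0⟩; ⟨0, 0⟩, ⟨0, 0⟩, ⟨0, 1⟩; ⟨0, 0⟩, ⟨1, 0⟩, ⟨0, 0⟩]

open Classification.RTwo.UThreeThree in
theorem isGood_H : IsGood matH := by decide +kernel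

theorem matH_eight : matH * matH * matH * matH * matH * matH * matH * matH = 1 := by decide +kernel

theorem matH_four : matH * matH * matH * matH ≠ 1 := by decide +kernel

open Classification.RTwo.UThreeThree in
theorem mt_H : mt isGood_H.su = matH := rfl

open Classification.RTwo.UThreeThree in
theorem mt_one' : mt 1 = 1 := rfl

open Classification.RTwo.UThreeThree in
theorem orderOf_H : orderOf isGood_H.su = 8 := by
  have h1 : isGood_H.su ^ 2 ^ 3 = 1 := by
    have h : mt (isGood_H.su ^ 2 ^ 3) = mt 1 := by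
      have e : isGood_H.su ^ 2 ^ 3 = isGood_H.su * isGood_H.su * isGood_H.su * isGood_H.su * isGood_H.su *
          isGood_H.su * isGood_H.su * isGood_H.su := by
        norm_num [pow_succ]
      rw [e]
      simp only [mt_mul, mt_H]
      rw [matH_eight, mt_one']
    exact su_ext h
  have h2 : ¬ isGood_H.su ^ 2 ^ 2 = 1 := by
    intro h
    apply matH_four
    have e : isGood_H.su ^ 2 ^ 2 = isGood_H.su * isGood_H.su * isGood_H.su * isGood_H.su := by
      norm_num [pow_succ]
    have h3 : mt (isGood_H.su ^ 2 ^ 2) = mt 1 := by rw [h]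
    rw [e] at h3
    simp only [mt_mul, mt_H] at h3
    rw [h3, mt_one']
  have := orderOf_eq_prime_pow (p := 2) h2 h1
  simpa using this

open Classification.RTwo.UThreeThree in
/-- **the dichotomy for `U₃(3)`** -/
theorem dich_psu_three {K : Type*} [Group K] {F : Type*} [Field F] [Fintype F] (hF : Fintype.card F = 9)
    (h : Nonempty (K ≃* PSU 3 F 3)) : Dich 2 K := by
  obtain ⟨e⟩ := h
  have : Finite K := Finite.of_equiv _ e.symm.toEquiv
  have : IsSimpleGroup (PSU 3 F 3) := S0283.result (q := 3) (by rw [hF]; norm_num) 3 le_rfl (by omega)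
  have : IsSimpleGroup K := e.isSimpleGroup
  have hcard : Fintype.card F = Fintype.card K9 := by rw [hF, card_k9]
  obtain ⟨e1⟩ : Nonempty (F ≃+* K9) := ⟨FiniteField.ringEquivOfCardEq hcard⟩
  let e2 := e.trans ((psuEquiv hF).trans (LieClassical.FieldTransfer.suCongr 3 3 e1))
  refine Dich.of_eq_top (eq_top_of_6048 ?_ (g := e2.symm isGood_H.su) ?_)
  · rw [Nat.card_congr e.toEquiv]
    exact SmallSimple.PSLFacts.card_psu_three_three hF
  · rw [← orderOf_H]
    exact orderOf_injective e2.symm.toMonoidHom e2.symm.injective _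

/-! ### `L₂(8)` -/

theorem eq_top_of_504 {K : Type*} [Group K] [Finite K] {F : Type*} [Field F] [Fintype F] (hF : Fintype.card F = 8)
    (e : K ≃* Matrix.ProjectiveSpecialLinearGroup (Fin 2) F) (M : Subgroup K)
    (hM : pCore 3 ↥M = ⊥) (hidx : ¬ 3 ∣ M.index) : M = ⊤ := by
  have : Fact (Nat.Prime 3) := ⟨Nat.prime_three⟩
  have : CharP F 2 := by
    obtain ⟨p, hp⟩ := CharP.exists F
    obtain ⟨n, hn, he⟩ := FiniteField.card F p
    rw [hF] at he
    have h2 : p ∣ 2 ^ 3 := by
      rw [show (2 : ℕ) ^ 3 = p ^ (n : ℕ) from he]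
      exact dvd_pow_self p n.ne_zero
    rw [(Nat.prime_dvd_prime_iff_eq hn Nat.prime_two).1 (hn.dvd_of_dvd_pow h2)] at hp
    exact hp
  have : IsSimpleGroup (Matrix.ProjectiveSpecialLinearGroup (Fin 2) F) :=
    TwoFusion.SLTwoFacts.isSimpleGroup_psl (by rw [hF]; norm_num)
  have : IsSimpleGroup K := e.isSimpleGroup
  have hK : Nat.card K = 504 := by
    rw [Nat.card_congr e.toEquiv]
    exact SmallSimple.PSLFacts.card_psl_two_eight hF
  by_contra hne
  have hc := not_isMulCommutative_of_card (K := K) (by rw [hK]; norm_num)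
  have h1 := Classification.SimpleIndex.two_mul_card_dvd_factorial_index hc M hne
  rw [hK] at h1
  have h2 : Nat.card ↥M * M.index = 504 := by rw [Subgroup.card_mul_index, hK]
  have h3 : M.index ∣ 56 := by
    have : M.index ∣ 3 ^ 2 * 56 := ⟨Nat.card ↥M, by rw [mul_comm] at h2; omega⟩
    refine Nat.Coprime.dvd_of_dvd_mul_left ?_ this
    exact (Nat.Coprime.pow_left 2 ((Nat.Prime.coprime_iff_not_dvd Nat.prime_three).2 hidx)).symm
  -- the common argument
  have key : ∀ r : ℕ, r ∣ 56 → r ≤ 8 → Nat.card ↥M = 3 ^ 2 * r → Group.IsSolvable ↥M → False := by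
    intro r hr hr8 hcard hsol
    have hr3 : ¬ 3 ∣ r := fun h => absurd (h.trans hr) (by norm_num)
    obtain ⟨S, hS, hSc⟩ := exists_sylow_card (p := 3) hcard hr3
    have h6 := card_fitting_dvd hM hcard
    have hFne : Nat.card ↥(fittingSubgroup ↥M) ≠ 1 := by
      intro h7
      rw [Subgroup.card_eq_one] at h7
      have h8 : S = ⊥ := by
        rw [eq_bot_iff]
        intro s hs
        refine eq_one_of_centralizes hM hS hs fun f hf => ?_
        rw [h7, mem_bot] at hf
        subst hf
        simp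
      rw [h8, Subgroup.card_bot] at hSc
      omega
    obtain ⟨q, hq, hqd⟩ := Nat.exists_prime_and_dvd hFne
    have : Fact q.Prime := ⟨hq⟩
    obtain ⟨x, hx⟩ := exists_prime_orderOf_dvd_card' q hqd
    have hx' : orderOf ((x : ↥M) : K) = q := by
      rw [Subgroup.orderOf_coe, Subgroup.orderOf_coe]
      exact hx
    have hq56 : q ∈ Nat.primeFactors 56 :=
      Nat.mem_primeFactors.2 ⟨hq, hqd.trans (h6.trans hr), by norm_num⟩
    have hq27 : q = 2 ∨ q = 7 := by
      have h7 : Nat.primeFactors 56 = {2, 7} := by decide +kernel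
      rw [h7] at hq56
      simpa using hq56
    -- the centraliser of `x` is a `3'`-group
    have hcent : ∀ s ∈ S, s * (x : ↥M) * s⁻¹ = x → s = 1 := by
      intro s hs he
      obtain ⟨k, hk⟩ := hS ⟨s, hs⟩
      have hk' : s ^ 3 ^ k = 1 := congrArg Subtype.val hk
      have hks : ((s : K)) ^ 3 ^ k = 1 := congrArg Subtype.val hk'
      have hcm : (s : K) ∈ centralizer ({((x : ↥M) : K)} : Set K) := by
        rw [mem_centralizer_singleton_iff]
        rw [mul_inv_eq_iff_eq_mul] at he
        exact congrArg Subtype.val he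
      have hcop : ∃ n : ℕ, (s : K) ^ n = 1 ∧ Nat.Coprime (3 ^ k) n := by
        rcases hq27 with rfl | rfl
        · obtain ⟨j, hj⟩ := SignalizersComponents.BalEndSz.isPGroup_centralizer_psl e hx' ⟨(s : K), hcm⟩
          exact ⟨2 ^ j, congrArg Subtype.val hj, Nat.Coprime.pow _ _ (by norm_num)⟩
        · refine ⟨7, ?_, Nat.Coprime.pow_left _ (by norm_num)⟩
          have h7 := SmallSimple.Simple504.card_centralizer_of_orderOf_seven hK hx'
          have h8 := orderOf_dvd_natCard (⟨(s : K), hcm⟩ : ↥(centralizer ({((x : ↥M) : K)} : Set K)))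
          rw [h7, Subgroup.orderOf_mk] at h8
          exact orderOf_dvd_iff_pow_eq_one.1 h8
      obtain ⟨n, hn, hco⟩ := hcop
      have h9 : orderOf (s : K) = 1 :=
        Nat.dvd_one.1 (hco ▸ Nat.dvd_gcd (orderOf_dvd_of_pow_eq_one hks) (orderOf_dvd_of_pow_eq_one hn))
      exact Subtype.ext (orderOf_eq_one_iff.1 h9)
    have hx1 : (x : ↥M) ≠ 1 := by
      intro h
      rw [h] at hx'
      rw [OneMemClass.coe_one, orderOf_one] at hx'
      exact hq.one_lt.ne hx'
    have h7 := card_le_of_orbit (X := ((fittingSubgroup ↥M : Subgroup ↥M) : Set ↥M) \ {1}) hcent fun s _ =>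
      ⟨Lib.Cores.fittingSubgroup_normal.conj_mem _ x.2 s, fun e => hx1 (conj_eq_one_iff.1 e)⟩
    rw [card_diff_singleton, hSc] at h7
    have h8 : Nat.card ↥(fittingSubgroup ↥M) ≤ r :=
      Nat.le_of_dvd (Nat.pos_of_ne_zero (by rintro rfl; exact hr3 (dvd_zero _))) h6
    omega
  have h4 : M.index ∈ Nat.divisors 56 := Nat.mem_divisors.2 ⟨h3, by norm_num⟩
  have h5 : Nat.divisors 56 = {1, 2, 4, 7, 8, 14, 28, 56} := by decide +kernel
  rw [h5] at h4
  simp only [Finset.mem_insert, Finset.mem_singleton] at h4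
  rcases h4 with h4 | h4 | h4 | h4 | h4 | h4 | h4 | h4
  · exact hne (Subgroup.index_eq_one.1 h4)
  · rw [h4] at h1
    exact absurd h1 (by decide)
  · rw [h4] at h1
    exact absurd h1 (by decide)
  · have h6 : Nat.card ↥M = 3 ^ 2 * 8 := by rw [h4] at h2; omega
    exact key 8 (by norm_num) (by norm_num) h6
      (S0144.result 2 3 3 2 Nat.prime_two (by norm_num) (by rw [h6]; norm_num))
  · have h6 : Nat.card ↥M = 3 ^ 2 * 7 := by rw [h4] at h2; omega
    exact key 7 (by norm_num) (by norm_num) h6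
      (S0144.result 7 3 1 2 (by norm_num) (by norm_num) (by rw [h6]; norm_num))
  · have h6 : Nat.card ↥M = 3 ^ 2 * 4 := by rw [h4] at h2; omega
    exact key 4 (by norm_num) (by norm_num) h6
      (S0144.result 2 3 2 2 Nat.prime_two (by norm_num) (by rw [h6]; norm_num))
  · have h6 : Nat.card ↥M = 3 ^ 2 * 2 := by rw [h4] at h2; omega
    exact key 2 (by norm_num) (by norm_num) h6
      (S0144.result 2 3 1 2 Nat.prime_two (by norm_num) (by rw [h6]; norm_num))
  · have h6 : Nat.card ↥M = 3 ^ 2 * 1 := by rw [h4] at h2; omega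
    exact key 1 (by norm_num) (by norm_num) h6
      (S0144.result 2 3 0 2 Nat.prime_two (by norm_num) (by rw [h6]; norm_num))

/-- **the dichotomy for `L₂(8)`** -/
theorem dich_psl_two_eight {K : Type*} [Group K] {F : Type*} [Field F] [Fintype F] (hF : Fintype.card F = 8)
    (h : Nonempty (K ≃* Matrix.ProjectiveSpecialLinearGroup (Fin 2) F)) : Dich 3 K := by
  have : Fact (Nat.Prime 3) := ⟨Nat.prime_three⟩
  obtain ⟨e⟩ := h
  have : Finite K := Finite.of_equiv _ e.symm.toEquiv
  exact Dich.of_eq_top (eq_top_of_504 hF e)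

end Cfsg.Agent.H248.Ovg
end

-- part: H248/DichChev
section
/-!
# The dichotomy for every simple group of Lie type (helper248)

`dich_of_chev` : in `K ∈ Chev(p)` simple, there is a `p`-subgroup `U` of index prime to `p` such that every subgroup
`P ≥ U` is `K` or normalises a nontrivial `p`-subgroup of itself; by `Dich.eq_top`, a subgroup of index prime to `p` with
`O_p = 1` is `K`.
-/

set_option autoImplicit false

namespace Cfsg.Agent.H248.Ovg

open Cfsg

theorem dich_of_chev {K : Type*} [Group K] [Finite K] {p : ℕ} [Fact p.Prime] (hK : Cfsg.IsChevSimple p K) :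
    Dich p K := by
  rcases hK with h | ⟨rfl, h⟩ | ⟨rfl, F, i1, i2, hF, h⟩
  · rcases Cfsg.Agent.Nodes.RGDLie.hasRGD_of_lie h with h1 | ⟨rfl, h1⟩ | ⟨rfl, h1⟩ | ⟨rfl, h1⟩
    · exact dich_of_hasRGD h1
    · exact dich_sz h1
    · exact Cfsg.Agent.H248.TwF4Over.dich_2F4 h1
    · exact dich_ree h1
  · rcases h with h | ⟨F, i1, i2, hF, h⟩ | h
    · exact dich_alt_six h
    · exact dich_psu_three hF h
    · exact Cfsg.Agent.H248.TitsDich.dich_tits h
  · exact dich_psl_two_eight hF h

end Cfsg.Agent.H248.Ovg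
end
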