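import Mathlib
import Cfsg.Agent.H248.TwF4Dich
import Cfsg.Agent.KFacts.TwF4.Layers
import Cfsg.Agent.KFacts.TwF4.TorFix
import Cfsg.Agent.H233.Core
import Cfsg.Agent.Nodes.Reps
import Cfsg.Agent.S0058
import Cfsg.Agent.FastGrp
import Cfsg.Agent.Prune
set_option linter.all false
prune_inst 0x7f00000000000000000000000000000000000000000000000000000000000000000000000000000000000000000000000000000000000000000000000000000000000000000000000000000000000000003fffffffffffffffffffffffffffbeffbdffffffff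
open scoped Cfsg.Agent.FastGrp

/-!
# Opposite parabolic subgroups of `²F₄(q)` (helper248)

`S : Full σ G`, `V = J a (a + 6)`, `a = 1` or `2`: the unipotent radicals of the maximal parabolic subgroups over `U = J 1 8`.
* `J_opp` : `J a (a + 6) ⊓ J (a + 8) (a + 14) = ⊥`;
* `opp_mem` : a conjugate `W` of `V` with `V ⊓ W = ⊥` is `u (J (a + 8) (a + 14)) u⁻¹`, `u ∈ U`;
* `exists_fixed` : `p`-groups of automorphisms fix a member of an invariant set of subgroups of cardinality prime to `p`;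
* `exists_opp` : a `p`-group of automorphisms, `p` odd, which normalises `V` normalises a conjugate `W` of `V` with `V ⊔ W = ⊤`.
-/

set_option autoImplicit false
set_option linter.unusedSectionVars false

namespace Cfsg.Agent.H248.TwF4Opp

open Cfsg.Agent.KFacts.TwF4 Cfsg.Agent.KFacts.TwF4.Full Cfsg.Agent.KFacts.TwF4.Arc
open Cfsg.Agent.KFacts.TwF4.Inv Cfsg.Agent.KFacts.TwF4.SylU
open Cfsg.Agent.SplitTwo Cfsg.Agent.SplitTwo.ZS Cfsg.Agent.TitsThree.RankTwoZ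
open Cfsg.Agent.SplitTwo.RootSysZ Subgroup Cfsg Cfsg.Lie Cfsg.Agent.H248.Ovg Cfsg.Agent.H248.TwF4Over
open Cfsg.Agent.Nodes.Reps Cfsg.Agent.KFacts.TwF4.Perf Cfsg.Agent.KFacts.TwF4.Layers

universe u

section Abs

variable {G : Type u} [Group G] [Finite G] {p : ℕ} [hp : Fact p.Prime]

/-- fixed subgroups -/
theorem exists_fixed {A : Subgroup (MulAut G)} (hA : IsPGroup p A) {Ω : Set (Subgroup G)}
    (hΩ : ∀ α ∈ A, ∀ W ∈ Ω, W.map α.toMonoidHom ∈ Ω) (hcard : ¬ p ∣ Ω.ncard) :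
    ∃ W ∈ Ω, ∀ α ∈ A, W.map α.toMonoidHom = W := by
  let act : MulAction ↥A ↥Ω :=
    { smul := fun α W => ⟨W.1.map α.1.toMonoidHom, hΩ α.1 α.2 W.1 W.2⟩
      one_smul := fun W => Subtype.ext (Subgroup.map_id W.1)
      mul_smul := fun α β W => Subtype.ext (Subgroup.map_map W.1 α.1.toMonoidHom β.1.toMonoidHom).symm }
  have hc : ¬ p ∣ Nat.card ↥Ω := hcard
  obtain ⟨W, hW⟩ := hA.nonempty_fixed_point_of_prime_not_dvd_card ↥Ω hc
  exact ⟨W.1, W.2, fun α hα => congrArg Subtype.val (hW ⟨α, hα⟩)⟩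

/-- the cardinality of the set of the `U`-conjugates -/
theorem ncard_orbit (U W : Subgroup G) : {Z : Subgroup G | ∃ u ∈ U, Z = cj u W}.ncard ∣ Nat.card U := by
  let act : MulAction ↥U (Subgroup G) :=
    { smul := fun u Z => cj (u : G) Z
      one_smul := fun Z => cj_one Z
      mul_smul := fun u v Z => cj_mul (u : G) v Z }
  have h1 : {Z : Subgroup G | ∃ u ∈ U, Z = cj u W} = MulAction.orbit ↥U W := by
    ext Z
    constructor
    · rintro ⟨u, hu, rfl⟩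
      exact ⟨⟨u, hu⟩, rfl⟩
    · rintro ⟨u, rfl⟩
      exact ⟨u.1, u.2, rfl⟩
  rw [h1, ← MulAction.index_stabilizer]
  exact Subgroup.index_dvd_card _

end Abs

section Full

variable {F : Type*} [Field F] {σ : F →+* F} {G : Type u} [Group G] (S : Full σ G)

theorem cj_J_add {w : G} {c : ℤ} (hw : Maps S.R.X w (fun k => (c : ZMod (2 * 8)) + k)) (a b : ℤ) :
    cj w (J S.XZ a b) = J S.XZ (c + a) (c + b) := by
  apply le_antisymm
  · refine Subgroup.map_le_iff_le_comap.2 (J_le fun k h1 h2 x hx => ?_)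
    refine X_le_J (X := S.XZ) (k := c + k) (by omega) (by omega) ?_
    change w * x * w⁻¹ ∈ _
    rw [xz_eq, Int.cast_add]
    exact (hw _ _).2 hx
  · refine J_le fun k h1 h2 x hx => mem_cj.2 ?_
    refine X_le_J (X := S.XZ) (k := k - c) (by omega) (by omega) ?_
    rw [xz_eq]
    refine (hw _ _).1 ?_
    have e : w * (w⁻¹ * x * w) * w⁻¹ = x := by group
    rw [e]
    have e2 : (c : ZMod (2 * 8)) + ((k - c : ℤ) : ZMod (2 * 8)) = (k : ZMod (2 * 8)) := by push_cast; ring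
    change x ∈ S.R.X ((c : ZMod (2 * 8)) + ((k - c : ℤ) : ZMod (2 * 8)))
    rw [e2]
    exact hx

theorem cj_J_sub {w : G} {c : ℤ} (hw : Maps S.R.X w (fun k => (c : ZMod (2 * 8)) - k)) (a b : ℤ) :
    cj w (J S.XZ a b) = J S.XZ (c - b) (c - a) := by
  apply le_antisymm
  · refine Subgroup.map_le_iff_le_comap.2 (J_le fun k h1 h2 x hx => ?_)
    refine X_le_J (X := S.XZ) (k := c - k) (by omega) (by omega) ?_
    change w * x * w⁻¹ ∈ _
    rw [xz_eq, Int.cast_sub]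
    exact (hw _ _).2 hx
  · refine J_le fun k h1 h2 x hx => mem_cj.2 ?_
    refine X_le_J (X := S.XZ) (k := c - k) (by omega) (by omega) ?_
    rw [xz_eq]
    refine (hw _ _).1 ?_
    have e : w * (w⁻¹ * x * w) * w⁻¹ = x := by group
    rw [e]
    have e2 : (c : ZMod (2 * 8)) - ((c - k : ℤ) : ZMod (2 * 8)) = (k : ZMod (2 * 8)) := by push_cast; ring
    change x ∈ S.R.X ((c : ZMod (2 * 8)) - ((c - k : ℤ) : ZMod (2 * 8)))
    rw [e2]
    exact hx

theorem cj_J_tor {t : G} (ht : t ∈ S.T) (a b : ℤ) : cj t (J S.XZ a b) = J S.XZ a b := by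
  have h := cj_J_add S (w := t) (c := 0) (by
    intro k x
    have h1 := ht k x
    change _ ∈ S.R.X (((0 : ℤ) : ZMod (2 * 8)) + k) ↔ _
    rw [Int.cast_zero, zero_add]
    exact h1) a b
  rwa [zero_add, zero_add] at h

theorem xz_per (k n : ℤ) : S.XZ (k + 16 * n) = S.XZ k := by
  rw [xz_eq, xz_eq]
  congr 1
  push_cast
  have : (16 : ZMod (2 * 8)) = 0 := by decide
  rw [this, zero_mul, add_zero]

theorem J_per (a b n : ℤ) : J S.XZ (a + 16 * n) (b + 16 * n) = J S.XZ a b := by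
  apply le_antisymm
  · refine J_le fun k h1 h2 => ?_
    have e : k = (k - 16 * n) + 16 * n := by ring
    rw [e, xz_per]
    exact X_le_J (by omega) (by omega)
  · refine J_le fun k h1 h2 => ?_
    rw [← xz_per S k n]
    exact X_le_J (by omega) (by omega)

theorem cj_J_U {a b : ℤ} (hab : b < a + 7) (h1 : a - 1 ≤ 1) (h2 : 8 ≤ b + 1) {u : G} (hu : u ∈ J S.XZ 1 8) :
    cj u (J S.XZ a b) = J S.XZ a b := by
  have key : ∀ v ∈ J S.XZ 1 8, cj v (J S.XZ a b) ≤ J S.XZ a b := by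
    intro v hv
    refine Subgroup.map_le_iff_le_comap.2 fun x hx => ?_
    exact S.zsys8.conj_J (a := a) (b := b) (c := 1) (d := 8) (by omega) h1 h2 hv hx
  apply le_antisymm (key u hu)
  have h3 := cj_mono u (key u⁻¹ (inv_mem hu))
  rwa [cj_cj_inv] at h3

/-- an element of the torus which fixes a nontrivial element of `X_k` centralises `X_k` -/
theorem Tk_of_fix {t : G} (ht : t ∈ S.T) {k : ℤ} {y : G} (hy : y ∈ S.XZ k) (hy1 : y ≠ 1) (h : t * y * t⁻¹ = y) :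
    t ∈ S.Tk k := by
  obtain ⟨c, d, rfl⟩ := S.mem_T.1 ht
  refine ⟨ht, Subgroup.mem_centralizer_iff.2 fun x hx => ?_⟩
  obtain ⟨a, ha⟩ | ⟨a, ha⟩ := od_or_ev (k : ZMod (2 * 8))
  · rw [xz_eq, ha] at hy hx
    have h1 : chO σ a c d = 1 := by
      by_contra h2
      exact hy1 (S.fpf_odd h2 ((S.mem_odd a y).1 hy) h)
    obtain ⟨s, rfl⟩ := (S.mem_odd a x).1 hx
    have h3 := S.h_o c d a s
    rw [h1, Units.val_one, one_mul, mul_inv_eq_iff_eq_mul] at h3
    exact h3.symm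
  · rw [xz_eq, ha] at hy hx
    have h1 : chE σ a c d = 1 := by
      by_contra h2
      exact hy1 (S.fpf_even h2 ((S.mem_even a y).1 hy) h)
    obtain ⟨s, s', rfl⟩ := (S.mem_even a x).1 hx
    have h3 := S.h_e c d a s s'
    rw [h1, Units.val_one, one_mul, one_mul, map_one, one_mul, mul_inv_eq_iff_eq_mul] at h3
    exact h3.symm

/-- an element of `J a (a + 6) ∩ J (a + 8) (a + 14)` fixed by a nontrivial element of the torus is trivial -/
theorem fix_opp {a : ℤ} {x t : G} (ht : t ∈ S.T) (ht1 : t ≠ 1) (hx : x ∈ J S.XZ a (a + 6))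
    (hx' : x ∈ J S.XZ (a + 8) (a + 14)) (h : t * x * t⁻¹ = x) : x = 1 := by
  by_cases hk : ∃ k : ℤ, a ≤ k ∧ k ≤ a + 6 ∧ ∃ y ∈ S.XZ k, y ≠ 1 ∧ t * y * t⁻¹ = y
  · obtain ⟨k, h1, h2, y, hy, hy1, hty⟩ := hk
    have htk := Tk_of_fix S ht hy hy1 hty
    have hx1 := S.fix_J htk ht1 (a := a) (b := a + 6) (by omega) (by omega) (by omega) hx h
    have hx2 := S.fix_J_of ht (a := a + 8) (b := a + 14) (k := k + 8) (by omega)
      (fun j j1 j2 j3 y hy hty => S.fpf (k := k) (j := j) (by omega) htk ht1 hy hty) hx' h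
    exact S.X_inf_opp hx1 hx2
  · push Not at hk
    refine S.fix_J_one ht (a := a) (b := a + 6) (by omega) (fun j j1 j2 y hy hty => ?_) hx h
    by_contra hy1
    exact hk j j1 j2 y hy hy1 hty

/-- the subgroup `{h c d : c ^ r = d ^ r = 1}` of the torus -/
def Om (r : ℕ) : Subgroup G where
  carrier := {g | ∃ c d : Fˣ, c ^ r = 1 ∧ d ^ r = 1 ∧ S.h c d = g}
  one_mem' := ⟨1, 1, one_pow _, one_pow _, S.h_one⟩
  mul_mem' := by
    rintro _ _ ⟨c, d, h1, h2, rfl⟩ ⟨c', d', h3, h4, rfl⟩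
    exact ⟨c * c', d * d', by rw [mul_pow, h1, h3, one_mul], by rw [mul_pow, h2, h4, one_mul], (S.h_mul _ _ _ _).symm⟩
  inv_mem' := by
    rintro _ ⟨c, d, h1, h2, rfl⟩
    exact ⟨c⁻¹, d⁻¹, by rw [inv_pow, h1, inv_one], by rw [inv_pow, h2, inv_one], (S.h_inv _ _).symm⟩

theorem Om_le (r : ℕ) : Om S r ≤ S.T := by
  rintro _ ⟨c, d, -, -, rfl⟩
  exact S.mem_T.2 ⟨c, d, rfl⟩

variable [Finite F] [Finite G]

theorem isPGroup_J' (hR : S.R.p = 2) {a b : ℤ} (h1 : a ≤ b) (h2 : b ≤ a + 7) : IsPGroup 2 (J S.XZ a b) := by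
  have : Fact (Nat.Prime 2) := ⟨Nat.prime_two⟩
  exact isPGroup_J S.zsys8 (two_X S hR) 8 a b (by push_cast; omega) (by omega)

/-- **The intersection of opposite unipotent radicals is trivial.** -/
theorem J_opp (hF : ∃ c : Fˣ, c ≠ 1) (hR : S.R.p = 2) (a : ℤ) : J S.XZ a (a + 6) ⊓ J S.XZ (a + 8) (a + 14) = ⊥ := by
  obtain ⟨r, c, hr, hcr, hc1⟩ := exists_prime_unit hF
  have hr2 : r ≠ 2 := ne_two S hcr hc1
  have hrf : Fact r.Prime := ⟨hr⟩
  have h2f : Fact (Nat.Prime 2) := ⟨Nat.prime_two⟩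
  have hco : orderOf c = r := orderOf_eq_prime hcr hc1
  set A := Om S r with hA
  set D := J S.XZ a (a + 6) ⊓ J S.XZ (a + 8) (a + 14) with hD
  have hexp : ∀ x ∈ A, x ^ r = 1 := by
    rintro _ ⟨c, d, h1, h2, rfl⟩
    rw [h_pow, h1, h2, S.h_one]
  have hcard : r ^ 2 ≤ Nat.card A := by
    have h1 : Nat.card (Fin r × Fin r) = r ^ 2 := by
      rw [Nat.card_prod, Nat.card_eq_fintype_card, Fintype.card_fin, pow_two]
    rw [← h1]
    refine Nat.card_le_card_of_injective (fun x : Fin r × Fin r =>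
      (⟨S.h (c ^ (x.1 : ℕ)) (c ^ (x.2 : ℕ)), c ^ (x.1 : ℕ), c ^ (x.2 : ℕ), by rw [← pow_mul, mul_comm, pow_mul, hcr, one_pow],
        by rw [← pow_mul, mul_comm, pow_mul, hcr, one_pow], rfl⟩ : A)) ?_
    rintro ⟨i, j⟩ ⟨i', j'⟩ h
    obtain ⟨h2, h3⟩ := S.h_inj _ _ _ _ (congrArg Subtype.val h)
    have key : ∀ m n : Fin r, c ^ (m : ℕ) = c ^ (n : ℕ) → m = n := by
      intro m n hmn
      apply Fin.ext
      exact pow_injOn_Iio_orderOf (by rw [Set.mem_Iio, hco]; exact m.2) (by rw [Set.mem_Iio, hco]; exact n.2) hmn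
    exact Prod.ext (key _ _ h2) (key _ _ h3)
  have hcomm : IsMulCommutative A := by
    constructor
    constructor
    rintro ⟨x, hx⟩ ⟨y, hy⟩
    exact Subtype.ext (S.T_comm (Om_le S r hx) (Om_le S r hy))
  have hncyc : ¬ IsCyclic A := H233.Core.not_isCyclic hexp hcard
  have hAD : A ≤ normalizer (D : Set G) := by
    intro t ht
    rw [mem_normalizer_iff_cj]
    have h1 : cj t D = cj t (J S.XZ a (a + 6)) ⊓ cj t (J S.XZ (a + 8) (a + 14)) :=
      Subgroup.map_inf _ _ _ (MulAut.conj t).injective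
    rw [h1, cj_J_tor S (Om_le S r ht), cj_J_tor S (Om_le S r ht)]
  have hDp : IsPGroup 2 D := (isPGroup_J' S hR (a := a) (b := a + 6) (by omega) (by omega)).to_le inf_le_left
  have hcop : (Nat.card A).Coprime (Nat.card D) := by
    obtain ⟨n, hn⟩ := H233.Core.card_eq_pow hexp
    obtain ⟨k, hk⟩ := IsPGroup.iff_card.1 hDp
    rw [hn, hk]
    exact Nat.Coprime.pow n k ((Nat.coprime_primes hr Nat.prime_two).2 hr2)
  rw [← Cfsg.Agent.S0058.result A D hncyc hAD hcop, eq_bot_iff]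
  refine iSup₂_le fun t ht x hx => ?_
  rw [mem_bot]
  refine fix_opp S (Om_le S r ht.1) ht.2 hx.1.1 hx.1.2 ?_
  rw [← mem_centralizer_singleton_iff.1 hx.2]
  group

/-- intersecting intervals -/
theorem J_inf_ne {a b a' b' k n : ℤ} (h1 : a ≤ k) (h2 : k ≤ b) (h3 : a' ≤ k + 16 * n) (h4 : k + 16 * n ≤ b') :
    J S.XZ a b ⊓ J S.XZ a' b' ≠ ⊥ := by
  intro h
  apply S.zsys8.ne_bot k
  rw [eq_bot_iff, ← h]
  refine le_inf (X_le_J h1 h2) ?_
  rw [← xz_per S k n]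
  exact X_le_J h3 h4

/-- the conjugates of `V` meeting `V` trivially -/
theorem opp_mem {a : ℤ} (ha : a = 1 ∨ a = 2) {g : G} (h : J S.XZ a (a + 6) ⊓ cj g (J S.XZ a (a + 6)) = ⊥) :
    ∃ u ∈ J S.XZ 1 8, cj g (J S.XZ a (a + 6)) = cj u (J S.XZ (a + 8) (a + 14)) := by
  obtain ⟨b, hb, t, ht, w, hw, b', hb', rfl⟩ := S.bruhatE g
  have hV : ∀ u ∈ J S.XZ 1 8, cj u (J S.XZ a (a + 6)) = J S.XZ a (a + 6) := fun u hu =>
    cj_J_U S (by omega) (by omega) (by omega) hu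
  obtain ⟨a', d, hd, hw'⟩ : ∃ a' d : ℤ, a' = a + 2 * d ∧ cj w (J S.XZ a (a + 6)) = J S.XZ a' (a' + 6) := by
    obtain ⟨c, hc | hc⟩ := hw
    · exact ⟨2 * c + a, c, by ring, by rw [cj_J_add S hc]; congr 1; ring⟩
    · refine ⟨2 * c - (a + 6), c - a - 3, by ring, ?_⟩
      rw [cj_J_sub S hc]; congr 1; ring
  have e : cj (b * t * w * b') (J S.XZ a (a + 6)) = cj b (J S.XZ a' (a' + 6)) := by
    rw [cj_mul, cj_mul, cj_mul, hV b' hb', hw', cj_J_tor S ht]
  refine ⟨b, hb, ?_⟩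
  rw [e] at h ⊢
  have h1 : J S.XZ a (a + 6) ⊓ J S.XZ a' (a' + 6) = ⊥ := by
    have h2 : cj b (J S.XZ a (a + 6) ⊓ J S.XZ a' (a' + 6)) = ⊥ := by
      have h3 : cj b (J S.XZ a (a + 6) ⊓ J S.XZ a' (a' + 6)) = cj b (J S.XZ a (a + 6)) ⊓ cj b (J S.XZ a' (a' + 6)) :=
        Subgroup.map_inf _ _ _ (MulAut.conj b).injective
      rw [h3, hV b hb, h]
    exact (Subgroup.map_eq_bot_iff_of_injective _ (MulAut.conj b).injective).1 h2
  -- `a' = a + 8 + 16 n`
  by_cases hcase : ∃ n : ℤ, a' = a + 8 + 16 * n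
  · obtain ⟨n, hn⟩ := hcase
    have e1 : J S.XZ a' (a' + 6) = J S.XZ (a + 8) (a + 14) := by
      rw [← J_per S (a + 8) (a + 14) n, hn]
      congr 1
      ring
    rw [e1]
  · exfalso
    -- `a' - 16 n ∈ [a - 6, a + 6]`
    obtain ⟨n, k, k1, k2, k3, k4⟩ : ∃ n k : ℤ, a ≤ k ∧ k ≤ a + 6 ∧ a' ≤ k + 16 * n ∧ k + 16 * n ≤ a' + 6 := by
      have hm := Int.emod_add_mul_ediv (a' - a + 8) 16
      have hm1 := Int.emod_nonneg (a' - a + 8) (show (16 : ℤ) ≠ 0 by norm_num)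
      have hm2 := Int.emod_lt_of_pos (a' - a + 8) (show (0 : ℤ) < 16 by norm_num)
      set m := (a' - a + 8) % 16 with hmd
      set n := (a' - a + 8) / 16 with hnd
      have hm0 : m ≠ 0 := by
        intro h0
        exact hcase ⟨n - 1, by omega⟩
      refine ⟨n, max a (a' - 16 * n), ?_, ?_, ?_, ?_⟩ <;> omega
    exact J_inf_ne S k1 k2 k3 k4 h1

omit [Finite F] [Finite G] in
/-- opposite unipotent radicals generate -/
theorem sup_opp {a : ℤ} (ha : a = 1 ∨ a = 2) : J S.XZ a (a + 6) ⊔ J S.XZ (a + 8) (a + 14) = ⊤ := by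
  set K := J S.XZ a (a + 6) ⊔ J S.XZ (a + 8) (a + 14) with hK
  have hX : ∀ k n : ℤ, a ≤ k + 16 * n → k + 16 * n ≤ a + 6 → S.XZ k ≤ K := fun k n h1 h2 => by
    rw [← xz_per S k n]
    exact (X_le_J h1 h2).trans le_sup_left
  have hX' : ∀ k n : ℤ, a + 8 ≤ k + 16 * n → k + 16 * n ≤ a + 14 → S.XZ k ≤ K := fun k n h1 h2 => by
    rw [← xz_per S k n]
    exact (X_le_J h1 h2).trans le_sup_right
  rcases ha with rfl | rfl
  · have h1 := hX 1 0 (by norm_num) (by norm_num)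
    have h9 := hX' 9 0 (by norm_num) (by norm_num)
    have n1K := n1_mem_of S h1 h9
    have r1 : ∀ k, S.XZ k ≤ K → S.XZ (10 - k) ≤ K := by
      intro k hk x hx
      have h := S.n1_refl.mem_inv (k := k) hx (by ring)
      have e : x = S.n1 * (S.n1⁻¹ * x * S.n1) * S.n1⁻¹ := by group
      rw [e]
      exact K.mul_mem (K.mul_mem n1K (hk h)) (K.inv_mem n1K)
    have h8 := r1 2 (hX 2 0 (by norm_num) (by norm_num))
    have h0 := r1 10 (hX' 10 0 (by norm_num) (by norm_num))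
    exact eq_top_of S (by simpa using h0) h1 (by simpa using h8) h9
  · have h8 := hX 8 0 (by norm_num) (by norm_num)
    have h0 := hX' 0 1 (by norm_num) (by norm_num)
    have n2K := n2_mem_of S h0 h8
    have r2 : ∀ k, S.XZ k ≤ K → S.XZ (8 - k) ≤ K := by
      intro k hk x hx
      have h := S.n2_refl.mem_inv (k := k) hx (by ring)
      have e : x = S.n2 * (S.n2⁻¹ * x * S.n2) * S.n2⁻¹ := by group
      rw [e]
      exact K.mul_mem (K.mul_mem n2K (hk h)) (K.inv_mem n2K)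
    have h1 := r2 7 (hX 7 0 (by norm_num) (by norm_num))
    have h9 := r2 (-1) (hX' (-1) 1 (by norm_num) (by norm_num))
    exact eq_top_of S h0 (by simpa using h1) h8 (by simpa using h9)

/-- **An opposite subgroup normalised by a `p`-group of automorphisms.** -/
theorem exists_opp (hF : ∃ c : Fˣ, c ≠ 1) (hR : S.R.p = 2) {p : ℕ} [hp : Fact p.Prime] (hp2 : p ≠ 2)
    {A : Subgroup (MulAut G)} (hA : IsPGroup p A) {a : ℤ} (ha : a = 1 ∨ a = 2)
    (hV : ∀ α ∈ A, (J S.XZ a (a + 6)).map α.toMonoidHom = J S.XZ a (a + 6)) :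
    ∃ W : Subgroup G, IsPGroup 2 W ∧ (∀ α ∈ A, W.map α.toMonoidHom = W) ∧ J S.XZ a (a + 6) ⊔ W = ⊤ := by
  set V := J S.XZ a (a + 6) with hVd
  have hVU : ∀ u ∈ J S.XZ 1 8, cj u V = V := fun u hu => cj_J_U S (by omega) (by omega) (by omega) hu
  -- `V⁻` is a conjugate of `V`
  obtain ⟨g, hg⟩ : ∃ g : G, cj g V = J S.XZ (a + 8) (a + 14) := by
    have h1 := S.rot_maps 4
    refine ⟨S.rot ^ (4 : ℤ), ?_⟩
    rw [hVd, cj_J_add S h1]
    congr 1 <;> ring
  set Ω : Set (Subgroup G) := {W | (∃ g, W = cj g V) ∧ V ⊓ W = ⊥} with hΩ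
  have hΩ' : Ω = {Z : Subgroup G | ∃ u ∈ J S.XZ 1 8, Z = cj u (J S.XZ (a + 8) (a + 14))} := by
    ext W
    constructor
    · rintro ⟨⟨g, rfl⟩, h⟩
      exact opp_mem S ha h
    · rintro ⟨u, hu, rfl⟩
      refine ⟨⟨u * g, by rw [cj_mul, hg]⟩, ?_⟩
      have h3 : cj u (V ⊓ J S.XZ (a + 8) (a + 14)) = cj u V ⊓ cj u (J S.XZ (a + 8) (a + 14)) :=
        Subgroup.map_inf _ _ _ (MulAut.conj u).injective
      rw [hVU u hu] at h3
      rw [← h3, J_opp S hF hR a]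
      exact Subgroup.map_bot _
  have hcard : ¬ p ∣ Ω.ncard := by
    intro h
    rw [hΩ'] at h
    have h1 := h.trans (ncard_orbit (J S.XZ 1 8) (J S.XZ (a + 8) (a + 14)))
    obtain ⟨n, hn⟩ := IsPGroup.iff_card.1 (isPGroup_J' S hR (a := 1) (b := 8) (by norm_num) (by norm_num))
    rw [hn] at h1
    exact hp2 ((Nat.prime_dvd_prime_iff_eq hp.out Nat.prime_two).1 (hp.out.dvd_of_dvd_pow h1))
  obtain ⟨W, hW, hWA⟩ := exists_fixed hA (Ω := Ω) (by
    rintro α hα W ⟨⟨g, rfl⟩, h⟩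
    refine ⟨⟨α g, ?_⟩, ?_⟩
    · have h1 : (cj g V).map α.toMonoidHom = cj (α g) (V.map α.toMonoidHom) := by
        unfold cj
        rw [Subgroup.map_map, Subgroup.map_map]
        congr 1
        ext x
        change α (g * x * g⁻¹) = α g * α x * (α g)⁻¹
        rw [map_mul, map_mul, map_inv]
      rw [h1, hV α hα]
    · have h1 : (V ⊓ cj g V).map α.toMonoidHom = V.map α.toMonoidHom ⊓ (cj g V).map α.toMonoidHom :=
        Subgroup.map_inf _ _ _ α.injective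
      rw [hV α hα] at h1
      rw [← h1, h]
      exact Subgroup.map_bot _) hcard
  rw [hΩ'] at hW
  obtain ⟨u, hu, rfl⟩ := hW
  refine ⟨cj u (J S.XZ (a + 8) (a + 14)),
    (isPGroup_J' S hR (a := a + 8) (b := a + 14) (by omega) (by omega)).map _, hWA, ?_⟩
  have h1 : V ⊔ cj u (J S.XZ (a + 8) (a + 14)) = cj u (V ⊔ J S.XZ (a + 8) (a + 14)) := by
    rw [cj_sup, hVU u hu]
  rw [h1, hVd, sup_opp S ha]
  exact cj_eq_of_mem (mem_top _)

/-! ### automorphisms fixing an involution -/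

theorem map_eq_of_le {α : MulAut G} {W : Subgroup G} (h : W.map α.toMonoidHom ≤ W) : W.map α.toMonoidHom = W :=
  Subgroup.eq_of_le_of_card_ge h (by rw [Subgroup.card_map_of_injective α.injective])

theorem map_centralizer (α : MulAut G) (s : Set G) :
    (centralizer s).map α.toMonoidHom = centralizer (α '' s) := by
  ext y
  constructor
  · rintro ⟨x, hx, rfl⟩
    rw [mem_centralizer_iff]
    rintro _ ⟨z, hz, rfl⟩
    change α z * α x = α x * α z
    rw [← map_mul, ← map_mul, mem_centralizer_iff.1 hx z hz]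
  · intro hy
    refine ⟨α.symm y, ?_, α.apply_symm_apply y⟩
    rw [SetLike.mem_coe, mem_centralizer_iff]
    intro z hz
    apply α.injective
    rw [map_mul, map_mul, α.apply_symm_apply]
    exact mem_centralizer_iff.1 hy _ ⟨z, hz, rfl⟩

theorem map_centralizer_sub (α : MulAut G) (K : Subgroup G) :
    (centralizer (K : Set G)).map α.toMonoidHom = centralizer ((K.map α.toMonoidHom : Subgroup G) : Set G) := by
  rw [map_centralizer]
  rfl

/-- `O₂` -/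
theorem map_O2 {α : MulAut G} {C O : Subgroup G} (hC : C.map α.toMonoidHom = C) (hO : IsPGroup 2 O) (hOC : O ≤ C)
    (hn : ∀ g ∈ C, ∀ x ∈ O, g * x * g⁻¹ ∈ O)
    (hmax : ∀ N : Subgroup G, N ≤ C → IsPGroup 2 N → (∀ g ∈ C, ∀ x ∈ N, g * x * g⁻¹ ∈ N) → N ≤ O) :
    O.map α.toMonoidHom = O := by
  apply map_eq_of_le
  refine hmax _ ?_ (hO.map _) ?_
  · rw [← hC]
    exact Subgroup.map_mono hOC
  · rintro g hg _ ⟨x, hx, rfl⟩
    rw [← hC] at hg
    obtain ⟨c, hc, rfl⟩ := hg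
    refine ⟨c * x * c⁻¹, hn c hc x hx, ?_⟩
    change α (c * x * c⁻¹) = α c * α x * (α c)⁻¹
    rw [map_mul, map_mul, map_inv]

theorem map_J17 (hF : ∃ c : Fˣ, c ≠ 1) (hR : S.R.p = 2) {α : MulAut G} {z : G} (hz : z ∈ S.Zc 2) (hz1 : z ≠ 1)
    (h : α z = z) : (J S.XZ 1 7).map α.toMonoidHom = J S.XZ 1 7 := by
  have hC : S.PL.map α.toMonoidHom = S.PL := by
    rw [← S.centralizer_z hz hz1, map_centralizer, Set.image_singleton, h]
  exact map_O2 hC (isPGroup_J' S hR (a := 1) (b := 7) (by norm_num) (by norm_num)) (J_mono (by norm_num) (by norm_num))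
    (fun g hg x hx => S.zsys8.conj_J (a := 1) (b := 7) (c := 0) (d := 8) (by norm_num) (by norm_num) (by norm_num) hg hx)
    (fun N h1 h2 h3 => O2_PL S hF hR h1 h2 h3)

theorem map_J28 (hF : ∃ c : Fˣ, c ≠ 1) (hR : S.R.p = 2) {α : MulAut G} {s : F} (hs : s ≠ 0)
    (h : α (S.o 2 s) = S.o 2 s) : (J S.XZ 2 8).map α.toMonoidHom = J S.XZ 2 8 := by
  have hC : S.HO.map α.toMonoidHom = S.HO := by
    rw [← S.centralizer_o hs, map_centralizer, Set.image_singleton, h]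
  have hNO : S.NO.map α.toMonoidHom = S.NO :=
    map_O2 hC ((isPGroup_J' S hR (a := 2) (b := 8) (by norm_num) (by norm_num)).to_le inf_le_left) (NO_HO S)
      (fun g hg x hx => NO_norm S hg hx) (fun N h1 h2 h3 => O2_HO S hF hR h1 h2 h3)
  have hV5 : S.V5.map α.toMonoidHom = S.V5 := by
    rw [← S.centralizer_NO, map_centralizer_sub, hNO]
  have hW : S.W46.map α.toMonoidHom = S.W46 := by
    rw [← comm_V5 S hF, Subgroup.map_commutator, hV5, hC]
  rw [← S.centralizer_W46, map_centralizer_sub, hW]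

/-- the pair for an involution in standard position -/
theorem exists_pair_std (hF : ∃ c : Fˣ, c ≠ 1) (hR : S.R.p = 2) {p : ℕ} [hp : Fact p.Prime] (hp2 : p ≠ 2)
    {A : Subgroup (MulAut G)} (hA : IsPGroup p A) {t : G}
    (ht : (∃ u : F, u ≠ 0 ∧ t = S.e 2 0 u) ∨ ∃ s : F, s ≠ 0 ∧ t = S.o 2 s) (hAt : ∀ α ∈ A, α t = t) :
    ∃ V W : Subgroup G, IsPGroup 2 V ∧ IsPGroup 2 W ∧ (∀ α ∈ A, V.map α.toMonoidHom = V) ∧
      (∀ α ∈ A, W.map α.toMonoidHom = W) ∧ V ⊔ W = ⊤ := by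
  rcases ht with ⟨u, hu, rfl⟩ | ⟨s, hs, rfl⟩
  · have hV : ∀ α ∈ A, (J S.XZ 1 (1 + 6)).map α.toMonoidHom = J S.XZ 1 (1 + 6) := fun α hα =>
      map_J17 S hF hR (S.mem_Zc.2 ⟨u, rfl⟩) (fun h => hu (S.e_eq_one h).2) (hAt α hα)
    obtain ⟨W, h1, h2, h3⟩ := exists_opp S hF hR hp2 hA (Or.inl rfl) hV
    exact ⟨_, W, isPGroup_J' S hR (by norm_num) (by norm_num), h1, hV, h2, h3⟩
  · have hV : ∀ α ∈ A, (J S.XZ 2 (2 + 6)).map α.toMonoidHom = J S.XZ 2 (2 + 6) := fun α hα =>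
      map_J28 S hF hR hs (hAt α hα)
    obtain ⟨W, h1, h2, h3⟩ := exists_opp S hF hR hp2 hA (Or.inr rfl) hV
    exact ⟨_, W, isPGroup_J' S hR (by norm_num) (by norm_num), h1, hV, h2, h3⟩

/-- **The pair.** -/
theorem exists_pair (hF : ∃ c : Fˣ, c ≠ 1) (hR : S.R.p = 2) {p : ℕ} [hp : Fact p.Prime] (hp2 : p ≠ 2)
    {A : Subgroup (MulAut G)} (hA : IsPGroup p A) {t : G} (ht : orderOf t = 2) (hAt : ∀ α ∈ A, α t = t) :
    ∃ V W : Subgroup G, IsPGroup 2 V ∧ IsPGroup 2 W ∧ (∀ α ∈ A, V.map α.toMonoidHom = V) ∧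
      (∀ α ∈ A, W.map α.toMonoidHom = W) ∧ V ⊔ W = ⊤ := by
  have htt : t * t = 1 := by
    have h0 := pow_orderOf_eq_one t
    rwa [ht, pow_two] at h0
  have ht1 : t ≠ 1 := by
    rintro rfl
    rw [orderOf_one] at ht
    omega
  obtain ⟨x, hx⟩ : ∃ x : G, (∃ u : F, u ≠ 0 ∧ x * t * x⁻¹ = S.e 2 0 u) ∨ ∃ s : F, s ≠ 0 ∧ x * t * x⁻¹ = S.o 2 s := by
    rcases classes S hF hR htt ht1 with ⟨u, hu, k, hk⟩ | ⟨s, hs, k, hk⟩
    · refine ⟨S.rot ^ (2 : ℤ) * k, Or.inl ⟨u, hu, ?_⟩⟩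
      have h1 := S.rotk_e 2 0 0 u
      rw [← hk] at h1
      have e : S.rot ^ (2 : ℤ) * k * t * (S.rot ^ (2 : ℤ) * k)⁻¹ = S.rot ^ (2 : ℤ) * (k * t * k⁻¹) * (S.rot ^ (2 : ℤ))⁻¹ := by
        group
      rw [e, h1]
      congr 1
    · refine ⟨S.rot ^ (2 : ℤ) * k, Or.inr ⟨s, hs, ?_⟩⟩
      have h1 := S.rotk_o 2 0 s
      rw [← hk] at h1
      have e : S.rot ^ (2 : ℤ) * k * t * (S.rot ^ (2 : ℤ) * k)⁻¹ = S.rot ^ (2 : ℤ) * (k * t * k⁻¹) * (S.rot ^ (2 : ℤ))⁻¹ := by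
        group
      rw [e, h1]
      congr 1
  set φ : MulAut G := MulAut.conj x with hφ
  set A' : Subgroup (MulAut G) := A.map (MulAut.conj φ).toMonoidHom with hA'
  have hA'p : IsPGroup p A' := hA.map _
  have hfix : ∀ β ∈ A', β (x * t * x⁻¹) = x * t * x⁻¹ := by
    rintro _ ⟨α, hα, rfl⟩
    change φ (α (φ.symm (φ t))) = φ t
    rw [φ.symm_apply_apply, hAt α hα]
  obtain ⟨V, W, h1, h2, h3, h4, h5⟩ := exists_pair_std S hF hR hp2 hA'p hx hfix
  have key : ∀ (Z : Subgroup G), (∀ β ∈ A', Z.map β.toMonoidHom = Z) →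
      ∀ α ∈ A, (Z.map φ.symm.toMonoidHom).map α.toMonoidHom = Z.map φ.symm.toMonoidHom := by
    intro Z hZ α hα
    have h6 := hZ (MulAut.conj φ α) ⟨α, hα, rfl⟩
    have h7 : (Z.map φ.symm.toMonoidHom).map α.toMonoidHom =
        (Z.map (MulAut.conj φ α : MulAut G).toMonoidHom).map φ.symm.toMonoidHom := by
      rw [Subgroup.map_map, Subgroup.map_map]
      congr 1
      ext y
      change α (φ.symm y) = φ.symm (φ (α (φ.symm y)))
      rw [φ.symm_apply_apply]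
    rw [h7, h6]
  refine ⟨V.map φ.symm.toMonoidHom, W.map φ.symm.toMonoidHom, h1.map _, h2.map _, key V h3, key W h4, ?_⟩
  rw [← Subgroup.map_sup, h5, ← MonoidHom.range_eq_map, MonoidHom.range_eq_top]
  exact φ.symm.surjective

end Full

end Cfsg.Agent.H248.TwF4Opp
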