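import Mathlib
import Cfsg.Agent.H232.RowTools_m3
import Cfsg.Agent.H169.PSLTwoAut
import Cfsg.Agent.Lib.PSL2Torus
import Cfsg.Agent.GTwoOdd.Core.HFive_m3
import Cfsg.Agent.S0815
import Cfsg.Agent.LieRecognition.FieldSemilinear
import Cfsg.Agent.H818.StrP.Row_m3
import Cfsg.Agent.StandardComponent.AltAut
import Cfsg.Agent.OddCyclic.EmpFFAlt
import Cfsg.Agent.LFourA.AltPsiAut
import Cfsg.Agent.LFourB.KSL
import Cfsg.Agent.TwoFusion.SLTwoFacts
import Cfsg.Agent.ClassicalGeometry.PSL2Basic
import Cfsg.Agent.BpRee.PslOdd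
import Cfsg.Agent.Walter.MetaPSL
import Cfsg.Agent.Lib.FieldAutCard
import Cfsg.Agent.H233.TRow
import Cfsg.Agent.OddTab.D4Short
import Cfsg.Agent.KFacts.RgdFiltClass
import Cfsg.Agent.KFacts.RgdFiltChev
import Cfsg.Agent.H523.FpfCycFam
import Cfsg.Agent.SignalizersComponents.BalEndSz
import Cfsg.Agent.H248.TwF4Opp
import Cfsg.Agent.FastGrp
import Cfsg.Agent.Prune
set_option linter.all false

section
prune_inst 0x7ffcfcfbaff8bddeffff7e7ffedddffdf9fcdfffffdffbcbffe8e9ffafdf6306f9e5fbad1fe058ff1ef7e0be30b87853fd7ecabfef6bdc7ffffd5ff45ffbee1ff7ffbd8d71d6ac3e0fbe6fff93f07f8e7f3fffffffffffffffffffffffffffbeffffffffffff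

-- part: H248/OwnTwo_mg
section
prune_inst 0x303005000422000000180002000020003200000000030000410000000080002100002600b00002000100006440380028134400094000000020000200411c00800023000211340104000006801800000000000000000000000000000000000000000000000
set_option linter.all false
open scoped Cfsg.Agent.FastGrp

-- part: H248/OwnTwo
section
/-!
# Own characteristic: `PSL₂(pⁿ)` and `PSU₃(p)` (helper248)

In the configuration `Cex p H L` of helper233:
* `not_PSL_two` : `L` is not `PSL₂(F)`, `F` of characteristic `p`;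
* `not_PSU_three` : `L` is not `PSU₃(p)`.
-/

set_option autoImplicit false
set_option linter.unusedSectionVars false

namespace Cfsg.Agent.H248.OwnChar

open Subgroup Cfsg.Agent.H233.T Cfsg.Agent.ClassicalGeometry.AutPSL.Root Cfsg.Agent.ClassicalGeometry.AutPSL.Auto
  Cfsg.Agent.ClassicalGeometry.AutPSL.Main Cfsg.Agent.H169.PSLTwoAut

section Aut

variable {F : Type*} [Field F] [Fintype F] {p : ℕ} [hp : Fact p.Prime]

/-- a noncyclic elementary abelian `p`-group of automorphisms of `PSL₂(F)`, `p` odd, contains inner automorphisms -/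
theorem exists_inner_PSL (hp2 : p ≠ 2) (E : Subgroup (MulAut (Matrix.ProjectiveSpecialLinearGroup (Fin 2) F)))
    (hE1 : ∀ a ∈ E, a ^ p = 1) (hE2 : p ^ 2 ≤ Nat.card E) :
    ∃ a ∈ E, a ≠ 1 ∧ ∃ g : Matrix.ProjectiveSpecialLinearGroup (Fin 2) F, a = MulAut.conj g := by
  classical
  have hpo : Odd p := hp.out.odd_of_ne_two hp2
  have hcyc : IsCyclic (F ≃+* F) := Cfsg.Agent.LieRecognition.FieldSemilinear.isCyclic_ringAut F
  have hfinσ : Finite (F ≃+* F) := Finite.of_injective (fun σ : F ≃+* F => (σ : F → F)) (fun σ τ h => RingEquiv.ext (congrFun h))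
  have hfin : Finite E := Nat.finite_of_card_ne_zero (by
    have : 0 < p ^ 2 := pow_pos hp.out.pos 2
    omega)
  obtain ⟨r, hr⟩ := CharP.exists F
  have hrp : Fact r.Prime := ⟨CharP.char_is_prime F r⟩
  choose A σ hA using fun a : E => surj_two r (a : MulAut (Matrix.ProjectiveSpecialLinearGroup (Fin 2) F))
  have hσ : ∀ a : E, σ a ^ p = 1 := fun a => sigma_pow (A a) (σ a) p (by rw [← hA a]; exact hE1 a a.2)
  have := Fintype.ofFinite (F ≃+* F)
  have := Fintype.ofFinite E
  let S : Finset (F ≃+* F) := Finset.univ.filter fun τ => τ ^ p = 1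
  have hS : S.card ≤ p := IsCyclic.card_pow_eq_one_le hp.out.pos
  have hcard : S.card < (Finset.univ : Finset E).card := by
    rw [Finset.card_univ, ← Nat.card_eq_fintype_card]
    have h1 : p < p ^ 2 := by
      rw [pow_two]
      exact lt_mul_of_one_lt_left hp.out.pos hp.out.one_lt
    omega
  obtain ⟨a, -, b, -, hab, e⟩ := Finset.exists_ne_map_eq_of_card_lt_of_maps_to hcard
    (f := σ) (fun a _ => Finset.mem_coe.2 (Finset.mem_filter.2 ⟨Finset.mem_univ _, hσ a⟩))
  refine ⟨(a * b⁻¹ : E), (a * b⁻¹ : E).2, ?_, ?_⟩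
  · intro h
    apply hab
    have h1 : a * b⁻¹ = 1 := Subtype.ext h
    exact mul_inv_eq_one.1 h1
  · have h1 : (((a * b⁻¹ : E) : MulAut (Matrix.ProjectiveSpecialLinearGroup (Fin 2) F))) = lift (cj (A a * (A b)⁻¹)) := by
      rw [Subgroup.coe_mul, Subgroup.coe_inv, hA a, hA b, e, map_mul cj, map_inv cj, map_mul lift, map_mul lift,
        map_mul lift, mul_inv_rev, map_inv lift, mul_assoc, mul_inv_cancel_left]
    obtain ⟨g, hg⟩ := inner_of_odd (A a * (A b)⁻¹) hpo (by rw [← h1]; exact hE1 _ (a * b⁻¹ : E).2)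
    exact ⟨g, h1.trans hg⟩

end Aut

section Config

variable {G : Type*} [Group G] [Finite G] {p : ℕ} [hp : Fact p.Prime] {H L : Subgroup G}

theorem conjNormal_injective [hn : L.Normal] (hc : centralizer (L : Set G) = ⊥) :
    Function.Injective (MulAut.conjNormal : G →* MulAut ↥L) := by
  rw [injective_iff_map_eq_one]
  intro x hx
  have h1 : x ∈ centralizer (L : Set G) := by
    rw [mem_centralizer_iff]
    intro l hl
    have h2 := congrArg (fun f : MulAut ↥L => ((f ⟨l, hl⟩ : ↥L) : G)) hx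
    have h3 : x * l * x⁻¹ = l := h2
    calc l * x = x * l * x⁻¹ * x := by rw [h3]
      _ = x * l := by group
  rw [hc, mem_bot] at h1
  exact h1

/-- an element inducing an inner automorphism lies in `L` -/
theorem mem_of_inner [hn : L.Normal] (hc : centralizer (L : Set G) = ⊥) {x : G} {g : ↥L}
    (h : MulAut.conjNormal x = MulAut.conj g) : x = g := by
  have h1 : (MulAut.conjNormal (g : G) : MulAut ↥L) = MulAut.conj g := by
    apply MulEquiv.ext
    intro l
    rfl
  exact conjNormal_injective hc (h.trans h1.symm)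

/-- **`PSL₂(pⁿ)`** -/
theorem not_PSL_two (C : Cex p H L) {F : Type*} [Field F] [Fintype F] [CharP F p]
    (e : ↥L ≃* Matrix.ProjectiveSpecialLinearGroup (Fin 2) F) : False := by
  have hn := C.nrm
  obtain ⟨t, ht, ht2, E, hE, hEH, hEt⟩ := C.exists_invol
  -- `E` as a group of automorphisms of `PSL₂(F)`
  let φ : G →* MulAut (Matrix.ProjectiveSpecialLinearGroup (Fin 2) F) :=
    (MulAut.congr e).toMonoidHom.comp (MulAut.conjNormal : G →* MulAut ↥L)
  have hφ : Function.Injective φ := (MulAut.congr e).injective.comp (conjNormal_injective C.cent)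
  have hE' := hE.map φ hφ
  obtain ⟨_, ⟨x, hx, rfl⟩, hx1, g, hg⟩ := exists_inner_PSL C.odd (E.map φ) hE'.2.1 hE'.2.2
  have h1 : (MulAut.conjNormal x : MulAut ↥L) = MulAut.conj (e.symm g) := by
    apply (MulAut.congr e).injective
    refine Eq.trans (show MulAut.congr e (MulAut.conjNormal x) = φ x from rfl) (hg.trans ?_)
    apply MulEquiv.ext
    intro y
    simp only [_root_.MulAut.conj_apply, _root_.MulAut.congr_apply, _root_.MulEquiv.trans_apply, _root_.map_mul, _root_.MulEquiv.apply_symm_apply, _root_.map_inv]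
  have hxL : x ∈ L := by
    rw [mem_of_inner C.cent h1]
    exact SetLike.coe_mem _
  -- the centraliser of `t` in `L`
  have h2 : (2 : F) ≠ 0 := by
    have : ((2 : ℕ) : F) ≠ 0 := by
      rw [Ne, CharP.cast_eq_zero_iff F p]
      intro h
      exact C.odd ((Nat.prime_dvd_prime_iff_eq hp.out Nat.prime_two).1 h)
    exact_mod_cast this
  have ht1 : (⟨t, ht.2⟩ : ↥L) ≠ 1 := by
    intro h
    have : t = 1 := congrArg Subtype.val h
    rw [this, orderOf_one] at ht2
    exact absurd ht2 (by norm_num)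
  have htt : (⟨t, ht.2⟩ : ↥L) * ⟨t, ht.2⟩ = 1 := by
    apply Subtype.ext
    change t * t = 1
    rw [← pow_two, ← ht2, pow_orderOf_eq_one]
  obtain ⟨T, m, hT, hm⟩ := Cfsg.Agent.Lib.PSL2Torus.exists_torus h2 e ht1 htt
  have h3 := hT.card_centralizer
  have hxo : orderOf x = p := orderOf_eq_prime (hE.2.1 x hx) (by rintro rfl; exact hx1 (map_one φ))
  have h4 : p ∣ Nat.card (centralizer ({(⟨t, ht.2⟩ : ↥L)} : Set ↥L)) := by
    have h5 : (⟨x, hxL⟩ : ↥L) ∈ centralizer ({(⟨t, ht.2⟩ : ↥L)} : Set ↥L) := by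
      rw [mem_centralizer_singleton_iff]
      exact Subtype.ext (mem_centralizer_singleton_iff.1 (hEt hx))
    have h6 : orderOf (⟨⟨x, hxL⟩, h5⟩ : centralizer ({(⟨t, ht.2⟩ : ↥L)} : Set ↥L)) = p := by
      rw [Subgroup.orderOf_mk, Subgroup.orderOf_mk, hxo]
    rw [← h6]
    exact _root_.orderOf_dvd_natCard _
  have h5 : p ∣ Nat.card F := by
    obtain ⟨n, -, hn'⟩ := FiniteField.card F p
    rw [Nat.card_eq_fintype_card, hn']
    exact dvd_pow_self p n.ne_zero
  rw [h3] at h4
  have h6 : 1 ≤ Nat.card F := Nat.card_pos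
  rcases hm with ⟨-, hm⟩ | ⟨-, hm⟩
  · rw [hm] at h4
    have h7 := Nat.dvd_sub h5 h4
    rw [Nat.sub_sub_self h6] at h7
    exact hp.out.one_lt.ne' (Nat.dvd_one.1 h7)
  · rw [hm] at h4
    have h7 := Nat.dvd_sub h4 h5
    rw [Nat.add_sub_cancel_left] at h7
    exact hp.out.one_lt.ne' (Nat.dvd_one.1 h7)

/-- `p`-elements of `G` lie in `L` when `p` does not divide `|Out L|` -/
theorem mem_of_out (C : Cex p H L) {k : ℕ} (hk : Nat.card (MulAut ↥L) = k * Nat.card ↥L) (hpk : ¬ p ∣ k) {x : G}
    (hx : x ^ p = 1) : x ∈ L := by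
  classical
  have hn := C.nrm
  have hs := C.simple
  let I : Subgroup (MulAut ↥L) := (MulAut.conj : ↥L →* MulAut ↥L).range
  have hinj : Function.Injective (MulAut.conj : ↥L →* MulAut ↥L) := by
    rw [injective_iff_map_eq_one]
    intro y hy
    have h1 : y ∈ center ↥L := by
      rw [mem_center_iff]
      intro z
      have h2 := congrArg (fun f : MulAut ↥L => f z) hy
      have h3 : y * z * y⁻¹ = z := h2
      calc z * y = y * z * y⁻¹ * y := by rw [h3]
        _ = y * z := by group
    rcases (inferInstance : (center ↥L).Normal).eq_bot_or_eq_top with h | h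
    · rw [h, mem_bot] at h1; exact h1
    · exfalso
      obtain ⟨a, b, hab⟩ := C.nc
      apply hab
      have h2 : b ∈ center ↥L := by rw [h]; trivial
      exact mem_center_iff.1 h2 a
  have hI : Nat.card I = Nat.card ↥L := Nat.card_congr (MonoidHom.ofInjective hinj).toEquiv.symm
  have hfin : Finite (MulAut ↥L) := Finite.of_injective (fun σ : MulAut ↥L => (σ : ↥L → ↥L)) (fun σ τ h => MulEquiv.ext (congrFun h))
  have hIn : I.Normal := by
    refine ⟨?_⟩
    rintro _ ⟨y, rfl⟩ α
    refine ⟨α y, ?_⟩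
    apply MulEquiv.ext
    intro z
    simp only [MulAut.conj_apply, _root_.MulAut.mul_apply, _root_.MulAut.inv_apply, _root_.map_mul, _root_.MulEquiv.apply_symm_apply, _root_.map_inv]
  have hidx : I.index = k := by
    have h1 := I.card_mul_index
    rw [hk, hI, mul_comm] at h1
    exact Nat.eq_of_mul_eq_mul_right Nat.card_pos h1
  have h1 : (MulAut.conjNormal x : MulAut ↥L) ∈ I := by
    rw [← QuotientGroup.eq_one_iff]
    set y : MulAut ↥L ⧸ I := ((MulAut.conjNormal x : MulAut ↥L) : MulAut ↥L ⧸ I) with hy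
    have h2 : y ^ p = 1 := by
      rw [hy, ← QuotientGroup.mk_pow, ← map_pow, hx, map_one, QuotientGroup.mk_one]
    by_contra h3
    have h4 : orderOf y = p := orderOf_eq_prime h2 h3
    apply hpk
    rw [← hidx, Subgroup.index, ← h4]
    exact _root_.orderOf_dvd_natCard _
  obtain ⟨g, hg⟩ := h1
  rw [mem_of_inner C.cent hg.symm]
  exact SetLike.coe_mem _

/-- **`PSU₃(p)`** -/
theorem not_PSU_three (C : Cex p H L) {F : Type*} [Field F] [Fintype F] (hF : Fintype.card F = p ^ 2)
    (e : ↥L ≃* Cfsg.PSU 3 F p) : False := by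
  have hpo : Odd p := hp.out.odd_of_ne_two C.odd
  have hn := C.nrm
  have hfP : Finite (Cfsg.PSU 3 F p) := Finite.of_equiv _ e.toEquiv
  obtain ⟨t, ht, ht2, E, hE, hEH, hEt⟩ := C.exists_invol
  -- `E ≤ L`
  have hEL : E ≤ L := by
    intro x hx
    refine mem_of_out C (k := Nat.gcd 3 (p + 1) * (2 * 1)) ?_ ?_ (hE.2.1 x hx)
    · rw [Nat.card_congr (MulAut.congr e).toEquiv, Nat.card_congr e.toEquiv]
      exact Cfsg.Agent.S0815.result p 1 le_rfl (pow_one p).symm hF 3 le_rfl (fun h => C.odd h.2)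
    · intro h
      rcases hp.out.dvd_mul.1 h with h | h
      · have h1 := (h.trans (Nat.gcd_dvd_right 3 (p + 1)))
        have h2 := (Nat.dvd_add_right (dvd_refl p)).1 h1
        exact hp.out.one_lt.ne' (Nat.dvd_one.1 h2)
      · rw [mul_one] at h
        exact C.odd ((Nat.prime_dvd_prime_iff_eq hp.out Nat.prime_two).1 h)
  -- the centraliser of `t` in `L`
  have ht' : orderOf (e ⟨t, ht.2⟩) = 2 := by
    rw [MulEquiv.orderOf_eq, Subgroup.orderOf_mk, ht2]
  obtain ⟨g, hg⟩ := Cfsg.Agent.GTwoOdd.CentPSU.exists_conj_vv hF hpo ht'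
  have : Finite (Cfsg.GU 2 F p) := Cfsg.Agent.LieClassical.GUOrder.finite_GU 2
  have h1 : Nat.card (centralizer ({Cfsg.Agent.GTwoOdd.Core.HFiveB.vv (F := F) hF hpo} : Set (Cfsg.PSU 3 F p))) ∣
      Nat.card (Cfsg.GU 2 F p) := by
    have h3 : Nat.card (centralizer ({Cfsg.Agent.GTwoOdd.Core.HFiveB.vv (F := F) hF hpo} : Set (Cfsg.PSU 3 F p))) *
        Nat.card (Cfsg.Agent.GTwoOdd.Core.HFiveB.toC (F := F) hF hpo).ker = Nat.card (Cfsg.GU 2 F p) := by
      rw [← Subgroup.card_mul_index (Cfsg.Agent.GTwoOdd.Core.HFiveB.toC (F := F) hF hpo).ker, Subgroup.index_ker,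
        MonoidHom.range_eq_top.2 (Cfsg.Agent.GTwoOdd.Core.HFiveB.toC_surjective hF hpo), Subgroup.card_top, mul_comm]
    exact Dvd.intro _ h3
  have h2 := Cfsg.Agent.S0277.result hF 2
  norm_num only [Finset.prod_range_succ, Nat.even_iff, _root_.pow_one, _root_.Finset.range_one, _root_.Finset.prod_singleton, _root_.ite_true, _root_.ite_false] at h2
  rw [h2] at h1
  -- `E` embeds in the centraliser of `vv`
  let ψ : E →* centralizer ({Cfsg.Agent.GTwoOdd.Core.HFiveB.vv (F := F) hF hpo} : Set (Cfsg.PSU 3 F p)) :=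
    { toFun := fun x => ⟨g⁻¹ * e ⟨x, hEL x.2⟩ * g, by
        rw [mem_centralizer_singleton_iff]
        have h3 : e ⟨x, hEL x.2⟩ * e ⟨t, ht.2⟩ = e ⟨t, ht.2⟩ * e ⟨x, hEL x.2⟩ := by
          rw [← map_mul, ← map_mul]
          congr 1
          exact Subtype.ext (mem_centralizer_singleton_iff.1 (hEt x.2))
        rw [← hg] at h3
        have h4 := congrArg (fun y => g⁻¹ * y * g) h3
        calc g⁻¹ * e ⟨x, hEL x.2⟩ * g * Cfsg.Agent.GTwoOdd.Core.HFiveB.vv (F := F) hF hpo
            = g⁻¹ * (e ⟨x, hEL x.2⟩ * (g * Cfsg.Agent.GTwoOdd.Core.HFiveB.vv (F := F) hF hpo * g⁻¹)) * g := by group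
          _ = _ := h4
          _ = _ := by group⟩
      map_one' := by
        apply Subtype.ext
        change g⁻¹ * e 1 * g = 1
        rw [map_one]
        group
      map_mul' := by
        intro x y
        apply Subtype.ext
        change g⁻¹ * e (⟨x, hEL x.2⟩ * ⟨y, hEL y.2⟩) * g = g⁻¹ * e ⟨x, hEL x.2⟩ * g * (g⁻¹ * e ⟨y, hEL y.2⟩ * g)
        rw [map_mul]
        group }
  have hψ : Function.Injective ψ := by
    rw [injective_iff_map_eq_one]
    intro x hx
    have h3 : g⁻¹ * e ⟨x, hEL x.2⟩ * g = 1 := congrArg Subtype.val hx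
    have h4 : e ⟨x, hEL x.2⟩ = 1 := by
      calc e ⟨x, hEL x.2⟩ = g * (g⁻¹ * e ⟨x, hEL x.2⟩ * g) * g⁻¹ := by group
        _ = 1 := by rw [h3]; group
    have h5 := (MulEquiv.map_eq_one_iff e).1 h4
    have h6 : (x : G) = 1 := congrArg Subtype.val h5
    exact Subtype.ext h6
  have h3 : p ^ 2 ∣ p * ((p + 1) * (p ^ 2 - 1)) := by
    refine (hE.dvd_card.trans ?_).trans h1
    exact Subgroup.card_dvd_of_injective ψ hψ
  rw [pow_two, Nat.mul_dvd_mul_iff_left hp.out.pos] at h3
  rcases hp.out.dvd_mul.1 h3 with h | h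
  · have h2 := (Nat.dvd_add_right (dvd_refl p)).1 h
    exact hp.out.one_lt.ne' (Nat.dvd_one.1 h2)
  · have h4 : p ∣ p * p := dvd_mul_right p p
    have h5 := Nat.dvd_sub h4 h
    have h6 : 1 ≤ p * p := Nat.mul_pos hp.out.pos hp.out.pos
    rw [Nat.sub_sub_self h6] at h5
    exact hp.out.one_lt.ne' (Nat.dvd_one.1 h5)

end Config

end Cfsg.Agent.H248.OwnChar
end

-- part: H232/AltRow
section
/-!
# Theorem T: alternating groups

* `autInner_alt` : automorphisms of odd prime order of `A_n`, `n ≥ 5`, are inner;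
* `not_sq_dvd` : `p ^ 2` does not divide `|C(t)|`, `t` an involution of `A_n`, `n ≤ 2p`;
* `row_alt` : the alternating row.
-/

set_option autoImplicit false

namespace Cfsg.Agent.H232.Row

open Cfsg Subgroup Cfsg.Agent.H233.T Cfsg.Agent.CpAut Equiv

/-- an automorphism induced by a permutation has inner square -/
theorem sq_inner_of_perm {n : ℕ} {φ : MulAut ↥(alternatingGroup (Fin n))} {σ : Perm (Fin n)}
    (h : ∀ x : ↥(alternatingGroup (Fin n)), (φ x : Perm (Fin n)) = σ * x * σ⁻¹) :
    ∃ g : ↥(alternatingGroup (Fin n)), φ * φ = MulAut.conj g := by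
  have hs : σ * σ ∈ alternatingGroup (Fin n) := by
    rw [Equiv.Perm.mem_alternatingGroup, map_mul]
    exact Int.units_mul_self _
  refine ⟨⟨σ * σ, hs⟩, ?_⟩
  ext1 x
  apply Subtype.ext
  change (φ (φ x) : Perm (Fin n)) = σ * σ * x * (σ * σ)⁻¹
  rw [h, h]
  group

/-- automorphisms of odd prime order of `A_n` are inner -/
theorem autInner_alt {n : ℕ} (hn : 5 ≤ n) {p : ℕ} (hp : p.Prime) (hp2 : p ≠ 2) :
    AutInner p ↥(alternatingGroup (Fin n)) := by
  have h2p : (2 : ℕ).Coprime p := (Nat.coprime_primes Nat.prime_two hp).2 hp2.symm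
  rcases Nat.lt_or_ge n 7 with h7 | h7
  · interval_cases n
    · refine autInner_of_sq hp hp2 fun φ => ?_
      obtain ⟨σ, hσ⟩ := OddCyclic.EmpFFAlt.exists_conj φ
      exact sq_inner_of_perm hσ
    · intro φ hφ
      refine inner_of_pow (n := 4) hφ (Nat.Coprime.pow_left 2 h2p) ?_
      have h1 : φ * φ ∈ LFourA.AltPsiAut.NE := by
        by_cases hN : φ ∈ LFourA.AltPsiAut.NE
        · exact mul_mem hN hN
        · have h2 : φ⁻¹ ∉ LFourA.AltPsiAut.NE := fun h => hN (by simpa using inv_mem h)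
          have h3 := LFourA.AltPsiAut.inv_mul_mem h2 hN
          rwa [inv_inv] at h3
      obtain ⟨σ, hσ⟩ := LFourA.AltPsiAut.exists_perm h1
      obtain ⟨g, hg⟩ := sq_inner_of_perm hσ
      refine ⟨g, ?_⟩
      rw [← hg]
      simp only [pow_succ, pow_zero, one_mul, mul_assoc]
  · obtain ⟨m, rfl⟩ : ∃ m, n = m + 2 := ⟨n - 2, by omega⟩
    refine autInner_of_sq hp hp2 fun φ => ?_
    obtain ⟨σ, hσ⟩ := StandardComponent.AltAut.exists_conj (m := m) (by omega) φ
    exact sq_inner_of_perm hσ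

/-- `p ^ 2 ∤ n!` for `n < 2p` -/
theorem not_sq_dvd_factorial {p n : ℕ} (hp : p.Prime) (hn : n < 2 * p) : ¬ p ^ 2 ∣ n.factorial := by
  intro h
  have hp0 := hp.pos
  have h1 : 2 * p ≤ n ∨ n < 2 * p := by omega
  have h3 := (hp.pow_dvd_factorial_iff (n := n) (r := 2) (b := n + 1)
    (Nat.lt_succ_of_le (Nat.log_le_self p n))).1 h
  have h4 : ∑ i ∈ Finset.Ico 1 (n + 1), n / p ^ i ≤ 1 := by
    rcases Nat.eq_zero_or_pos n with h0 | h0
    · subst h0
      simp
    · rw [Finset.sum_eq_sum_Ico_succ_bot (by omega)]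
      have h5 : ∑ i ∈ Finset.Ico (1 + 1) (n + 1), n / p ^ i = 0 := by
        apply Finset.sum_eq_zero
        intro i hi
        rw [Finset.mem_Ico] at hi
        apply Nat.div_eq_of_lt
        have h6 : p ^ 2 ≤ p ^ i := Nat.pow_le_pow_right hp0 (by omega)
        have h7 : 2 * p ≤ p ^ 2 := by
          rw [pow_two]
          exact Nat.mul_le_mul_right p hp.two_le
        omega
      rw [h5, add_zero, pow_one]
      have : n / p < 2 := Nat.div_lt_of_lt_mul (by rw [mul_comm]; exact hn)
      omega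
  omega

/-- `p ^ 2` does not divide the order of the centralizer of an involution of `S_n`, `n ≤ 2 p`, with an even number of cycles -/
theorem not_sq_dvd {p n : ℕ} (hp : p.Prime) (hp2 : p ≠ 2) (hn : n ≤ 2 * p) {t : Perm (Fin n)} (ht : orderOf t = 2)
    (hs : Perm.sign t = 1) : ¬ p ^ 2 ∣ Nat.card ↥(centralizer ({t} : Set (Perm (Fin n)))) := by
  obtain ⟨k, hk⟩ := Perm.cycleType_prime_order (σ := t) (by rw [ht]; exact Nat.prime_two)
  rw [ht] at hk
  have hsum : t.cycleType.sum = 2 * (k + 1) := by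
    rw [hk, Multiset.sum_replicate, smul_eq_mul, mul_comm]
  have hsupp : t.support.card ≤ n := by
    have := Finset.card_le_univ t.support
    rwa [Fintype.card_fin] at this
  have hle : 2 * (k + 1) ≤ n := by
    rw [← hsum, Perm.sum_cycleType]
    exact hsupp
  have heven : (k + 1) % 2 = 0 := by
    have h1 := Perm.sign_of_cycleType t
    rw [hs, hk, Multiset.sum_replicate, Multiset.card_replicate] at h1
    by_contra hodd
    have h2 : Odd ((k + 1) • 2 + (k + 1)) := by
      rw [smul_eq_mul, Nat.odd_iff]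
      omega
    rw [h2.neg_one_pow] at h1
    exact absurd h1 (by decide)
  have hkp : k + 1 < p := by
    have h1 : k + 1 ≤ p := by omega
    have h2 : k + 1 ≠ p := by
      intro h
      rw [h] at heven
      exact hp2 ((Nat.prime_dvd_prime_iff_eq Nat.prime_two hp).1 (Nat.dvd_of_mod_eq_zero heven)).symm
    omega
  rw [Perm.nat_card_centralizer, hsum, hk, Fintype.card_fin, Multiset.prod_replicate,
    Multiset.toFinset_replicate, if_neg (Nat.succ_ne_zero k), Finset.prod_singleton, Multiset.count_replicate_self]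
  intro h
  have h1 : Nat.Coprime (p ^ 2) (2 ^ (k + 1)) :=
    Nat.Coprime.pow 2 (k + 1) ((Nat.coprime_primes hp Nat.prime_two).2 hp2)
  have h2 : Nat.Coprime (p ^ 2) (k + 1).factorial :=
    Nat.Coprime.pow_left 2 ((Nat.coprime_primes hp hp).1 |> fun _ => (hp.coprime_iff_not_dvd).2 fun hd =>
      absurd ((hp.dvd_factorial).1 hd) (by omega))
  have h3 := h2.dvd_of_dvd_mul_right h
  have h4 := h1.dvd_of_dvd_mul_right h3
  exact not_sq_dvd_factorial hp (by omega) h4

/-- the same in `A_n` -/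
theorem not_sq_dvd_alt {p n : ℕ} (hp : p.Prime) (hp2 : p ≠ 2) (hn : n ≤ 2 * p) {t : ↥(alternatingGroup (Fin n))}
    (ht : orderOf t = 2) : ¬ p ^ 2 ∣ Nat.card ↥(centralizer ({t} : Set ↥(alternatingGroup (Fin n)))) := by
  intro h
  refine not_sq_dvd hp hp2 hn (t := (t : Perm (Fin n))) (by rw [Subgroup.orderOf_coe]; exact ht)
    (Perm.mem_alternatingGroup.1 t.2) ?_
  refine h.trans ?_
  rw [← card_centralizer_coe]
  exact Subgroup.card_dvd_of_le inf_le_left

universe u

/-- **The alternating row of Theorem T.** -/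
theorem row_alt {G : Type u} [Group G] [Finite G] {p : ℕ} [hp : Fact p.Prime] {H L : Subgroup G} (C : Cex p H L)
    {n : ℕ} (hn : 5 ≤ n) (e : ↥L ≃* ↥(alternatingGroup (Fin n))) : False := by
  rcases Nat.lt_or_ge (2 * p) n with h | h
  · exact false_of_noSP C (H818.StrP.noSP_congr e.symm (H818.StrP.Alt.noSP_alt C.odd h))
  · have hi : AutInner p ↥L := (autInner_alt hn hp.out C.odd).congr e.symm
    obtain ⟨t, ht, ht2, E, hE, -, hEt⟩ := C.exists_invol
    have h1 : p ^ 2 ∣ Nat.card ↥(centralizer ({(⟨t, ht.2⟩ : ↥L)} : Set ↥L)) := by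
      rw [← card_centralizer_coe]
      exact hE.dvd_card.trans (Subgroup.card_dvd_of_le (le_inf hEt (sq_le C hi hE)))
    refine not_sq_dvd_alt hp.out C.odd h (t := e ⟨t, ht.2⟩) ?_ ?_
    · rw [MulEquiv.orderOf_eq, ← Subgroup.orderOf_coe]
      exact ht2
    · refine h1.trans (dvd_of_eq ?_)
      refine Nat.card_congr (Equiv.subtypeEquiv e.toEquiv fun x => ?_)
      change x ∈ centralizer _ ↔ e x ∈ centralizer _
      rw [mem_centralizer_singleton_iff, mem_centralizer_singleton_iff]
      constructor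
      · intro hx
        rw [← map_mul, hx, map_mul]
      · intro hx
        apply e.injective
        rw [map_mul, hx, map_mul]

end Cfsg.Agent.H232.Row
end
end

-- part: H248/RowCyc
section
prune_inst 0x40000000100000000010000000000000000000000001002001000000800000000800080004000020000000000000020000000000000000000000000000000000000000000104000000800004000000000000000000000000000000000000000000000
set_option linter.all false
open scoped Cfsg.Agent.FastGrp

-- part: H248/TorL2
section
/-!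
# Normalisers of subgroups of odd prime order in `PSL₂(q)` (helper248)

* `coatom_of_dihedral` : a simple group with a maximal subgroup which is dihedral and of index prime to `p`: the normalisers
  of the subgroups of order `p` are maximal;
* `isCoatom_normalizer` : in `PSL₂(F)`, `|F| ≥ 13` odd, `p` odd not dividing `|F|`.
-/

set_option autoImplicit false
set_option linter.unusedSectionVars false

namespace Cfsg.Agent.H248.TorL2

open Subgroup

section Dih

variable {X : Type*} [Group X] [Finite X] {p : ℕ} [hp : Fact p.Prime]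

/-- an element of order `p` is conjugate into a subgroup of index prime to `p` -/
theorem exists_conj_mem {H : Subgroup X} (hidx : ¬ p ∣ H.index) {a : X} (ha : a ^ p = 1) : ∃ g : X, g * a * g⁻¹ ∈ H := by
  obtain ⟨P⟩ : Nonempty (Sylow p ↥H) := inferInstance
  have h0 : ¬ p ∣ ((P : Subgroup ↥H).map H.subtype).index := by
    rw [Subgroup.index_map_subtype]
    intro h
    rcases hp.out.dvd_mul.1 h with h3 | h3
    · exact P.not_dvd_index h3
    · exact hidx h3
  have hA : IsPGroup p (zpowers a) := by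
    rw [IsPGroup.iff_card]
    rw [Nat.card_zpowers]
    rcases (Nat.dvd_prime hp.out).1 (orderOf_dvd_of_pow_eq_one ha) with h | h
    · exact ⟨0, by rw [h, pow_zero]⟩
    · exact ⟨1, by rw [h, pow_one]⟩
  obtain ⟨S, hS⟩ := hA.exists_le_sylow
  obtain ⟨g, hg⟩ := MulAction.exists_smul_eq X S (IsPGroup.toSylow (P.isPGroup'.map H.subtype) h0)
  refine ⟨g, ?_⟩
  have h1 : g * a * g⁻¹ ∈ ((g • S : Sylow p X) : Subgroup X) := ⟨a, hS (mem_zpowers a), rfl⟩
  rw [hg] at h1
  obtain ⟨y, -, hy⟩ := h1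
  rw [← hy]
  exact y.2

theorem dih_order {n : ℕ} (hp2 : p ≠ 2) {d : DihedralGroup n} (hd : d ^ p = 1) : ∃ i : ZMod n, d = DihedralGroup.r i := by
  rcases d with i | i
  · exact ⟨i, rfl⟩
  · exfalso
    have h1 : orderOf (DihedralGroup.sr i) = 2 := DihedralGroup.orderOf_sr i
    have h2 := orderOf_dvd_of_pow_eq_one hd
    have h3 : orderOf (DihedralGroup.sr i) ∣ p := h2
    rw [h1] at h3
    exact hp2 ((Nat.prime_dvd_prime_iff_eq Nat.prime_two hp.out).1 h3).symm

/-- the subgroups generated by rotations are normal -/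
theorem dih_normal {n : ℕ} (i : ZMod n) (d : DihedralGroup n) :
    d * DihedralGroup.r i * d⁻¹ = DihedralGroup.r i ∨ d * DihedralGroup.r i * d⁻¹ = (DihedralGroup.r i)⁻¹ := by
  rcases d with j | j
  · left
    rw [mul_inv_eq_iff_eq_mul, DihedralGroup.r_mul_r, DihedralGroup.r_mul_r, add_comm]
  · right
    rw [DihedralGroup.inv_r, DihedralGroup.inv_sr, DihedralGroup.sr_mul_r, DihedralGroup.sr_mul_sr]
    congr 1
    ring

/-- the normaliser of a subgroup of order `p` contains the dihedral group -/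
theorem le_normalizer {n : ℕ} (hp2 : p ≠ 2) {H : Subgroup X} (φ : ↥H ≃* DihedralGroup n) {a : X} (ha : a ∈ H)
    (hap : a ^ p = 1) : H ≤ normalizer ((zpowers a : Subgroup X) : Set X) := by
  obtain ⟨i, hi⟩ := dih_order (p := p) hp2 (d := φ ⟨a, ha⟩) (by
    rw [← map_pow, show (⟨a, ha⟩ : ↥H) ^ p = 1 from Subtype.ext hap, map_one])
  have key : ∀ x ∈ H, x * a * x⁻¹ = a ∨ x * a * x⁻¹ = a⁻¹ := by
    intro x hx
    rcases dih_normal i (φ ⟨x, hx⟩) with h | h
    · left
      rw [← hi, ← map_inv, ← map_mul, ← map_mul] at h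
      exact congrArg Subtype.val (φ.injective h)
    · right
      rw [← hi, ← map_inv, ← map_inv, ← map_mul, ← map_mul] at h
      exact congrArg Subtype.val (φ.injective h)
  have key2 : ∀ x ∈ H, ∀ y ∈ zpowers a, x * y * x⁻¹ ∈ zpowers a := by
    rintro x hx _ ⟨k, rfl⟩
    have h1 : x * a ^ k * x⁻¹ = (x * a * x⁻¹) ^ k := by rw [conj_zpow]
    change x * a ^ k * x⁻¹ ∈ _
    rw [h1]
    rcases key x hx with h | h
    · rw [h]; exact zpow_mem_zpowers a k
    · rw [h]; exact (zpowers a).zpow_mem ((zpowers a).inv_mem (mem_zpowers a)) k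
  intro x hx
  rw [mem_normalizer_iff]
  intro y
  refine ⟨key2 x hx y, fun h => ?_⟩
  have h1 := key2 x⁻¹ (H.inv_mem hx) _ h
  have e : x⁻¹ * (x * y * x⁻¹) * x⁻¹⁻¹ = y := by group
  rwa [e] at h1

/-- **Maximality.** -/
theorem coatom_of_dihedral [hs : IsSimpleGroup X] {n : ℕ} (hp2 : p ≠ 2) {H : Subgroup X} (hH : IsCoatom H)
    (φ : ↥H ≃* DihedralGroup n) (hidx : ¬ p ∣ H.index) {a : X} (ha : orderOf a = p) :
    IsCoatom (normalizer ((zpowers a : Subgroup X) : Set X)) ∧
      Nonempty (↥(normalizer ((zpowers a : Subgroup X) : Set X)) ≃* DihedralGroup n) := by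
  have hap : a ^ p = 1 := by rw [← ha]; exact pow_orderOf_eq_one a
  obtain ⟨g, hg⟩ := exists_conj_mem hidx hap
  set b := g * a * g⁻¹ with hb
  have hbp : b ^ p = 1 := by rw [hb, conj_pow, hap, mul_one, mul_inv_cancel]
  have hb1 : b ≠ 1 := by
    intro h
    have : a = 1 := by
      rw [hb, conj_eq_one_iff] at h
      exact h
    rw [this, orderOf_one] at ha
    exact hp.out.one_lt.ne ha
  have h1 := le_normalizer hp2 φ hg hbp
  have h2 : normalizer ((zpowers b : Subgroup X) : Set X) = H := by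
    rcases hH.le_iff.1 h1 with h | h
    · exfalso
      have hn : (zpowers b).Normal := normalizer_eq_top_iff.1 h
      rcases hn.eq_bot_or_eq_top with h3 | h3
      · exact hb1 (zpowers_eq_bot.1 h3)
      · apply hH.1
        rw [eq_top_iff, ← h3, zpowers_le]
        exact hg
    · exact h
  have h3 : (normalizer ((zpowers a : Subgroup X) : Set X)).map (MulAut.conj g).toMonoidHom = H := by
    rw [← h2]
    ext x
    constructor
    · rintro ⟨y, hy, rfl⟩
      rw [SetLike.mem_coe, mem_normalizer_iff] at hy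
      rw [mem_normalizer_iff]
      intro z
      have e1 : z ∈ zpowers b ↔ g⁻¹ * z * g ∈ zpowers a := by
        constructor
        · rintro ⟨k, rfl⟩
          refine ⟨k, ?_⟩
          change a ^ k = g⁻¹ * b ^ k * g
          rw [hb, conj_zpow]
          group
        · rintro ⟨k, hk⟩
          refine ⟨k, ?_⟩
          have hk' : a ^ k = g⁻¹ * z * g := hk
          change b ^ k = z
          rw [hb, conj_zpow, hk']
          group
      have e2 : (MulAut.conj g).toMonoidHom y * z * ((MulAut.conj g).toMonoidHom y)⁻¹ ∈ zpowers b ↔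
          y * (g⁻¹ * z * g) * y⁻¹ ∈ zpowers a := by
        change g * y * g⁻¹ * z * (g * y * g⁻¹)⁻¹ ∈ zpowers b ↔ _
        constructor
        · rintro ⟨k, hk⟩
          refine ⟨k, ?_⟩
          have hk' : b ^ k = g * y * g⁻¹ * z * (g * y * g⁻¹)⁻¹ := hk
          rw [hb, conj_zpow] at hk'
          change a ^ k = _
          have : a ^ k = g⁻¹ * (g * a ^ k * g⁻¹) * g := by group
          rw [this, hk']
          group
        · rintro ⟨k, hk⟩
          refine ⟨k, ?_⟩
          have hk' : a ^ k = y * (g⁻¹ * z * g) * y⁻¹ := hk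
          change b ^ k = _
          rw [hb, conj_zpow, hk']
          group
      rw [e1, e2]
      exact hy _
    · intro hx
      refine ⟨g⁻¹ * x * g, ?_, by change g * (g⁻¹ * x * g) * g⁻¹ = x; group⟩
      rw [mem_normalizer_iff] at hx
      rw [SetLike.mem_coe, mem_normalizer_iff]
      intro z
      have e1 : z ∈ zpowers a ↔ g * z * g⁻¹ ∈ zpowers b := by
        constructor
        · rintro ⟨k, rfl⟩
          refine ⟨k, ?_⟩
          change b ^ k = g * a ^ k * g⁻¹
          rw [hb, conj_zpow]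
        · rintro ⟨k, hk⟩
          refine ⟨k, ?_⟩
          have hk' : b ^ k = g * z * g⁻¹ := hk
          rw [hb, conj_zpow] at hk'
          change a ^ k = z
          have : a ^ k = g⁻¹ * (g * a ^ k * g⁻¹) * g := by group
          rw [this, hk']
          group
      have e2 : g⁻¹ * x * g * z * (g⁻¹ * x * g)⁻¹ ∈ zpowers a ↔ x * (g * z * g⁻¹) * x⁻¹ ∈ zpowers b := by
        constructor
        · rintro ⟨k, hk⟩
          refine ⟨k, ?_⟩
          have hk' : a ^ k = g⁻¹ * x * g * z * (g⁻¹ * x * g)⁻¹ := hk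
          change b ^ k = _
          rw [hb, conj_zpow, hk']
          group
        · rintro ⟨k, hk⟩
          refine ⟨k, ?_⟩
          have hk' : b ^ k = x * (g * z * g⁻¹) * x⁻¹ := hk
          rw [hb, conj_zpow] at hk'
          change a ^ k = _
          have : a ^ k = g⁻¹ * (g * a ^ k * g⁻¹) * g := by group
          rw [this, hk']
          group
      rw [e1, e2]
      exact hx _
  have h4 : normalizer ((zpowers a : Subgroup X) : Set X) = H.map (MulAut.conj g⁻¹).toMonoidHom := by
    rw [← h3, Subgroup.map_map]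
    ext x
    constructor
    · intro hx
      exact ⟨x, hx, by change g⁻¹ * (g * x * g⁻¹) * g⁻¹⁻¹ = x; group⟩
    · rintro ⟨y, hy, rfl⟩
      have : (((MulAut.conj g⁻¹).toMonoidHom.comp (MulAut.conj g).toMonoidHom) y) = y := by
        change g⁻¹ * (g * y * g⁻¹) * g⁻¹⁻¹ = y; group
      rw [this]
      exact hy
  constructor
  · rw [h4]
    exact LFourB.KSL.isCoatom_conj hH g⁻¹
  · rw [h4]
    exact ⟨(H.equivMapOfInjective _ (MulAut.conj g⁻¹).injective).symm.trans φ⟩

end Dih

section PSL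

variable {F : Type*} [Field F] [Fintype F] {p : ℕ} [hp : Fact p.Prime]

theorem isCoatom_normalizer (hodd : Odd (Fintype.card F)) (h13 : 13 ≤ Fintype.card F) (hp2 : p ≠ 2)
    (hpF : ¬ p ∣ Fintype.card F) {a : Matrix.ProjectiveSpecialLinearGroup (Fin 2) F} (ha : orderOf a = p) :
    IsCoatom (normalizer ((zpowers a : Subgroup (Matrix.ProjectiveSpecialLinearGroup (Fin 2) F)) :
        Set (Matrix.ProjectiveSpecialLinearGroup (Fin 2) F))) := by
  have hfin : Finite (Matrix.ProjectiveSpecialLinearGroup (Fin 2) F) := inferInstance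
  have hs := TwoFusion.SLTwoFacts.isSimpleGroup_psl (F := F) (by omega)
  set q := Fintype.card F with hq
  have hcard : 2 * Nat.card (Matrix.ProjectiveSpecialLinearGroup (Fin 2) F) = q * (q ^ 2 - 1) := by
    have := ClassicalGeometry.PSL2Basic.card_PSL2_odd F hodd
    rw [← hq] at this
    linarith
  have hq2 : q % 2 = 1 := Nat.odd_iff.1 hodd
  have hgcd : Nat.gcd 2 (q - 1) = 2 := Nat.gcd_eq_left (by omega)
  have hfac : q ^ 2 - 1 = (q - 1) * (q + 1) := by
    have h5 : 1 ≤ q ^ 2 := Nat.one_le_pow _ _ (by omega)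
    have h6 : 1 ≤ q := by omega
    zify [h5, h6]
    ring
  have hnot2 : ¬ p ∣ 2 := fun h => hp2 ((Nat.prime_dvd_prime_iff_eq hp.out Nat.prime_two).1 h)
  have hdiv : p ∣ Nat.card (Matrix.ProjectiveSpecialLinearGroup (Fin 2) F) := ha ▸ _root_.orderOf_dvd_natCard a
  have hd2 : p ∣ q * ((q - 1) * (q + 1)) := by rw [← hfac, ← hcard]; exact hdiv.mul_left 2
  have hd3 := (hp.out.dvd_mul.1 hd2).resolve_left hpF
  rcases hp.out.dvd_mul.1 hd3 with h | h
  · -- `p ∣ q - 1`
    obtain ⟨H, hH, ⟨φ⟩⟩ := Cfsg.Agent.S0812.result (F := F) (q := q) hq.symm (by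
        simp only [Finset.mem_insert, Finset.mem_singleton, not_or]
        refine ⟨?_, ?_, ?_, ?_, ?_, ?_⟩ <;> (clear * - h13 hq2; omega))
    rw [hgcd] at φ
    have hcH : Nat.card H = q - 1 := by
      rw [Nat.card_congr φ.toEquiv, DihedralGroup.nat_card]; omega
    have hidx : 2 * H.index = q * (q + 1) := by
      have h1 := Subgroup.card_mul_index H
      rw [hcH] at h1
      have h2 : (q - 1) * (2 * H.index) = (q - 1) * (q * (q + 1)) := by
        rw [← h1, hfac] at hcard
        linarith only [hcard]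
      exact Nat.eq_of_mul_eq_mul_left (by omega) h2
    have hni : ¬ p ∣ H.index := by
      intro h1
      have h2 : p ∣ q * (q + 1) := by rw [← hidx]; exact h1.mul_left 2
      have h3 := (hp.out.dvd_mul.1 h2).resolve_left hpF
      have h4 := Nat.dvd_sub h3 h
      have h5 : q + 1 - (q - 1) = 2 := by (clear * - hq2; omega)
      rw [h5] at h4
      exact hnot2 h4
    exact (coatom_of_dihedral hp2 hH φ hni ha).1
  · -- `p ∣ q + 1`
    obtain ⟨H, hH, ⟨φ⟩⟩ := Cfsg.Agent.S0811.result (F := F) (q := q) hq.symm (by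
        simp only [Finset.mem_insert, Finset.mem_singleton, not_or]
        refine ⟨?_, ?_, ?_⟩ <;> omega)
    rw [hgcd] at φ
    have hcH : Nat.card H = q + 1 := by
      rw [Nat.card_congr φ.toEquiv, DihedralGroup.nat_card]; omega
    have hidx : 2 * H.index = q * (q - 1) := by
      have h1 := Subgroup.card_mul_index H
      rw [hcH] at h1
      have h2 : (q + 1) * (2 * H.index) = (q + 1) * (q * (q - 1)) := by
        rw [← h1, hfac] at hcard
        linarith only [hcard]
      exact Nat.eq_of_mul_eq_mul_left (by omega) h2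
    have hni : ¬ p ∣ H.index := by
      intro h1
      have h2 : p ∣ q * (q - 1) := by rw [← hidx]; exact h1.mul_left 2
      have h3 := (hp.out.dvd_mul.1 h2).resolve_left hpF
      have h4 := Nat.dvd_sub h h3
      have h5 : q + 1 - (q - 1) = 2 := by (clear * - hq2; omega)
      rw [h5] at h4
      exact hnot2 h4
    exact (coatom_of_dihedral hp2 hH φ hni ha).1

end PSL

end Cfsg.Agent.H248.TorL2
end

-- part: H248/GenL2
section
/-!
# Generation of central extensions of `PSL₂(q)` by centralisers (helper248)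

`gen` : `K` a perfect group with `K / Z(K) ≅ PSL₂(F)`, `F` of odd order; `A` a noncyclic elementary abelian `p`-group acting
on `K` (`p` odd, not dividing `|F|`, `|Z(K)|`), trivially on `Z(K)`; a subgroup `M` of `K` containing `C_K(a)` (`1 ≠ a ∈ A`) and
the normalisers of its subgroups of order `p` is `K`.
-/

set_option autoImplicit false
set_option linter.unusedSectionVars false

namespace Cfsg.Agent.H248.GenL2

open Subgroup Cfsg.Agent.ClassicalGeometry.AutPSL.Root Cfsg.Agent.ClassicalGeometry.AutPSL.Auto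
  Cfsg.Agent.ClassicalGeometry.AutPSL.Main Cfsg.Agent.H169.PSLTwoAut

section Basic

variable {K : Type*} [Group K]

/-- an automorphism of a perfect group acting trivially modulo the center is trivial -/
theorem fix_of_quot (hperf : commutator K = ⊤) {α : MulAut K} (h : ∀ y, y⁻¹ * α y ∈ center K) : α = 1 := by
  let f : K →* K :=
    { toFun := fun y => y⁻¹ * α y
      map_one' := by simp
      map_mul' := by
        intro x y
        have h1 := mem_center_iff.1 (h x) y⁻¹
        rw [map_mul, mul_inv_rev]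
        calc y⁻¹ * x⁻¹ * (α x * α y) = y⁻¹ * (x⁻¹ * α x) * α y := by group
          _ = (x⁻¹ * α x) * y⁻¹ * α y := by rw [h1]
          _ = _ := by group }
  have h1 : commutator K ≤ f.ker := by
    rw [commutator_def, Subgroup.commutator_le]
    intro x _ y _
    rw [MonoidHom.mem_ker, map_commutatorElement, commutatorElement_eq_one_iff_mul_comm]
    exact (mem_center_iff.1 (h x) (f y)).symm
  apply MulEquiv.ext
  intro y
  have h2 : y ∈ f.ker := h1 (by rw [hperf]; trivial)
  have h3 : y⁻¹ * α y = 1 := h2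
  exact (inv_mul_eq_one.1 h3).symm

/-- the action on the central quotient -/
noncomputable def qa (K : Type*) [Group K] : MulAut K →* MulAut (K ⧸ center K) where
  toFun α := QuotientGroup.congr (center K) (center K) α (by
    exact (inferInstance : (center K).Characteristic) |> Subgroup.characteristic_iff_map_eq.1 <| α)
  map_one' := by
    apply MulEquiv.ext
    intro x
    obtain ⟨y, rfl⟩ := QuotientGroup.mk_surjective x
    rfl
  map_mul' α β := by
    apply MulEquiv.ext
    intro x
    obtain ⟨y, rfl⟩ := QuotientGroup.mk_surjective x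
    rfl

theorem qa_mk (α : MulAut K) (y : K) : qa K α (y : K ⧸ center K) = ((α y : K) : K ⧸ center K) := rfl

theorem mem_normalizer_zpowers [Finite K] {v n : K} (h : n * v * n⁻¹ ∈ zpowers v) :
    n ∈ normalizer ((zpowers v : Subgroup K) : Set K) := by
  have h1 : (zpowers v).map (MulAut.conj n).toMonoidHom ≤ zpowers v := by
    rintro _ ⟨_, ⟨k, rfl⟩, rfl⟩
    change n * v ^ k * n⁻¹ ∈ _
    rw [← conj_zpow]
    exact (zpowers v).zpow_mem h k
  have h2 : (zpowers v).map (MulAut.conj n).toMonoidHom = zpowers v := by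
    apply Subgroup.eq_of_le_of_card_ge h1
    rw [Subgroup.card_map_of_injective (MulAut.conj n).injective]
  rw [mem_normalizer_iff]
  intro y
  constructor
  · intro hy
    exact h1 ⟨y, hy, rfl⟩
  · intro hy
    rw [← h2] at hy
    obtain ⟨z, hz, e⟩ := hy
    have e' : n * z * n⁻¹ = n * y * n⁻¹ := e
    have : z = y := by
      have := mul_right_cancel e'
      exact mul_left_cancel this
    rwa [← this]

end Basic

section Gen

variable {F : Type*} [Field F] [Fintype F] {p : ℕ} [hp : Fact p.Prime]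

/-- a noninner automorphism of order `p`: `|F| ≥ 27` -/
theorem card_of_not_inner (hodd : Odd (Fintype.card F)) (hp2 : p ≠ 2)
    {α : MulAut (Matrix.ProjectiveSpecialLinearGroup (Fin 2) F)} (hα : α ^ p = 1)
    (hni : ¬ ∃ g, α = MulAut.conj g) : 27 ≤ Fintype.card F := by
  obtain ⟨r, hr⟩ := CharP.exists F
  have hrp : Fact r.Prime := ⟨CharP.char_is_prime F r⟩
  obtain ⟨A, σ, rfl⟩ := surj_two r α
  have hσ := sigma_pow A σ p hα
  have hσ1 : σ ≠ 1 := by
    rintro rfl
    apply hni
    have e1 : lift (cj A * fld (1 : F ≃+* F)) = lift (cj A) := by rw [map_one fld, mul_one]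
    rw [e1] at hα ⊢
    exact inner_of_odd A (hp.out.odd_of_ne_two hp2) hα
  obtain ⟨n, -, hn⟩ := FiniteField.card F r
  have h1 := Lib.FieldAutCard.card_ringAut (F := F) (f := (n : ℕ)) n.pos hn
  have h2 : orderOf σ = p := orderOf_eq_prime hσ hσ1
  have h3 : p ∣ (n : ℕ) := by rw [← h1, ← h2]; exact _root_.orderOf_dvd_natCard σ
  have h4 : 3 ≤ (n : ℕ) := by
    have := Nat.le_of_dvd n.pos h3
    have := hp.out.two_le
    omega
  have h5 : 3 ≤ r := by
    have h6 := hrp.out.two_le
    have h7 : r ≠ 2 := by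
      rintro rfl
      rw [hn] at hodd
      exact (Nat.not_odd_iff_even.2 ((even_two).pow_of_ne_zero n.ne_zero)) hodd
    omega
  rw [hn]
  calc 27 = 3 ^ 3 := by norm_num
    _ ≤ 3 ^ (n : ℕ) := Nat.pow_le_pow_right (by norm_num) h4
    _ ≤ r ^ (n : ℕ) := Nat.pow_le_pow_left h5 _

theorem gen {K A : Type*} [Group K] [Finite K] [Group A] [Finite A] (hodd : Odd (Fintype.card F)) (hp2 : p ≠ 2)
    (hpF : ¬ p ∣ Fintype.card F) (hAc : ∀ a b : A, a * b = b * a) (hAp : ∀ a : A, a ^ p = 1) (hA2 : p ^ 2 ≤ Nat.card A)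
    (φ : A →* MulAut K) (hperf : commutator K = ⊤) (hZ : ¬ p ∣ Nat.card (center K))
    (e : K ⧸ center K ≃* Matrix.ProjectiveSpecialLinearGroup (Fin 2) F) (hZc : ∀ a : A, ∀ z ∈ center K, φ a z = z)
    {M : Subgroup K} (hM1 : ∀ a : A, a ≠ 1 → ∀ y : K, φ a y = y → y ∈ M)
    (hM2 : ∀ v ∈ M, orderOf v = p → normalizer ((zpowers v : Subgroup K) : Set K) ≤ M) : M = ⊤ := by
  classical
  -- the center of `PSL₂`
  have hcQ : center (K ⧸ center K) = ⊥ := by
    rw [eq_bot_iff]
    intro x hx
    obtain ⟨y, rfl⟩ := QuotientGroup.mk_surjective x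
    have h1 : (MulAut.conj y : MulAut K) = 1 := by
      apply fix_of_quot hperf
      intro z
      rw [← QuotientGroup.eq_one_iff]
      have h2 := mem_center_iff.1 hx (z : K ⧸ center K)
      change ((z⁻¹ * (y * z * y⁻¹) : K) : K ⧸ center K) = 1
      have h3 : ((z⁻¹ * (y * z * y⁻¹) : K) : K ⧸ center K) = (z : K ⧸ center K)⁻¹ * ((y : K ⧸ center K) * z * (y : K ⧸ center K)⁻¹) := rfl
      rw [h3, ← h2]
      group
    rw [mem_bot, QuotientGroup.eq_one_iff, mem_center_iff]
    intro z
    have h2 : y * z * y⁻¹ = z := congrArg (fun f : MulAut K => f z) h1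
    calc z * y = y * z * y⁻¹ * y := by rw [h2]
      _ = y * z := by group
  have hinj : Function.Injective (MulAut.conj : Matrix.ProjectiveSpecialLinearGroup (Fin 2) F →* MulAut _) := by
    rw [injective_iff_map_eq_one]
    intro y hy
    have h1 : e.symm y ∈ center (K ⧸ center K) := by
      rw [mem_center_iff]
      intro z
      have h2 : y * e z * y⁻¹ = e z := congrArg (fun f : MulAut _ => f (e z)) hy
      apply e.injective
      rw [map_mul, map_mul, e.apply_symm_apply]
      calc e z * y = y * e z * y⁻¹ * y := by rw [h2]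
        _ = y * e z := by group
    rw [hcQ, mem_bot] at h1
    exact (MulEquiv.map_eq_one_iff e.symm).1 h1
  have hAp' : IsPGroup p A := fun a => ⟨1, by rw [pow_one]; exact hAp a⟩
  by_cases hq : Function.Injective ((qa K).comp φ)
  swap
  · -- an element of `A` acting trivially
    rw [injective_iff_map_eq_one] at hq
    push Not at hq
    obtain ⟨a, ha, ha1⟩ := hq
    have h1 : φ a = 1 := by
      apply fix_of_quot hperf
      intro y
      rw [← QuotientGroup.eq_one_iff]
      have h2 : qa K (φ a) (y : K ⧸ center K) = y := congrArg (fun f : MulAut _ => f (y : K ⧸ center K)) ha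
      rw [qa_mk] at h2
      have h3 : ((y⁻¹ * φ a y : K) : K ⧸ center K) = (y : K ⧸ center K)⁻¹ * ((φ a y : K) : K ⧸ center K) := rfl
      rw [h3, h2, inv_mul_cancel]
    rw [eq_top_iff]
    intro y _
    exact hM1 a ha1 y (by rw [h1]; rfl)
  -- the faithful case
  let ρ : A →* MulAut (Matrix.ProjectiveSpecialLinearGroup (Fin 2) F) :=
    (MulAut.congr e).toMonoidHom.comp ((qa K).comp φ)
  have hρ : Function.Injective ρ := (MulAut.congr e).injective.comp hq
  let π : K →* Matrix.ProjectiveSpecialLinearGroup (Fin 2) F := e.toMonoidHom.comp (QuotientGroup.mk' (center K))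
  have hπs : Function.Surjective π := e.surjective.comp (QuotientGroup.mk'_surjective _)
  have hπ1 : ∀ y, π y = 1 ↔ y ∈ center K := by
    intro y
    change e (y : K ⧸ center K) = 1 ↔ _
    rw [MulEquiv.map_eq_one_iff e, QuotientGroup.eq_one_iff]
  have hρπ : ∀ a y, ρ a (π y) = π (φ a y) := by
    intro a y
    change e (qa K (φ a) (e.symm (e (y : K ⧸ center K)))) = e ((φ a y : K) : K ⧸ center K)
    rw [e.symm_apply_apply, qa_mk]
  have hcard : Nat.card ρ.range = Nat.card A := Nat.card_congr (MonoidHom.ofInjective hρ).toEquiv.symm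
  obtain ⟨_, ⟨a₀, rfl⟩, ha₀, g0, hg0⟩ := OwnChar.exists_inner_PSL hp2 ρ.range (by
    rintro _ ⟨a, rfl⟩
    rw [← map_pow, hAp a, map_one]) (by rw [hcard]; exact hA2)
  have ha₀1 : a₀ ≠ 1 := by
    rintro rfl
    exact ha₀ (map_one ρ)
  have hg0p : g0 ^ p = 1 := by
    apply hinj
    rw [map_pow, ← hg0, ← map_pow, hAp, map_one, map_one]
  have hg01 : g0 ≠ 1 := by
    rintro rfl
    rw [map_one] at hg0
    exact ha₀ hg0
  -- the lift of `g0`
  obtain ⟨y0, hy0⟩ := hπs g0
  obtain ⟨k, hk1, hk2⟩ := Nat.chineseRemainder ((Nat.Prime.coprime_iff_not_dvd hp.out).2 hZ) 1 0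
  have hkm : Nat.card (center K) ∣ k := (Nat.modEq_zero_iff_dvd).1 hk2
  have hzm : ∀ z ∈ center K, ∀ j, Nat.card (center K) ∣ j → z ^ j = 1 := by
    intro z hz j hj
    have h1 : (⟨z, hz⟩ : center K) ^ j = 1 := by
      obtain ⟨i, rfl⟩ := hj
      rw [pow_mul, pow_card_eq_one', one_pow]
    exact congrArg Subtype.val h1
  have hzp : ∀ z ∈ center K, z ^ p = 1 → z = 1 := by
    intro z hz h1
    have h2 : orderOf z ∣ p := orderOf_dvd_of_pow_eq_one h1
    rcases (Nat.dvd_prime hp.out).1 h2 with h3 | h3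
    · exact orderOf_eq_one_iff.1 h3
    · exfalso
      apply hZ
      rw [← h3]
      have h4 : orderOf (⟨z, hz⟩ : center K) = orderOf z := Subgroup.orderOf_mk z hz
      rw [← h4]
      exact _root_.orderOf_dvd_natCard _
  set v := y0 ^ k with hv
  have hπv : π v = g0 := by
    rw [hv, map_pow, hy0]
    have h1 : g0 ^ k = g0 ^ 1 := by
      rw [pow_eq_pow_iff_modEq, orderOf_eq_prime hg0p hg01]
      exact hk1
    rw [h1, pow_one]
  have hvp : v ^ p = 1 := by
    rw [hv, ← pow_mul, mul_comm, pow_mul]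
    apply hzm _ _ _ hkm
    rw [← hπ1, map_pow, hy0, hg0p]
  have hv1 : v ≠ 1 := by
    intro h
    apply hg01
    rw [← hπv, h, map_one]
  have hvo : orderOf v = p := orderOf_eq_prime hvp hv1
  -- `a₀` acts on `K` as `v`
  have hact : φ a₀ = MulAut.conj v := by
    have h1 : (MulAut.conj v)⁻¹ * φ a₀ = 1 := by
      apply fix_of_quot hperf
      intro y
      rw [← hπ1, map_mul]
      have h2 : ((MulAut.conj v)⁻¹ * φ a₀) y = v⁻¹ * φ a₀ y * v := by
        rw [MulAut.mul_apply, MulAut.conj_inv_apply]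
      rw [h2, map_mul, map_mul, ← hρπ, hg0, ← hπv, MulAut.conj_apply, map_inv, map_inv]
      group
    exact (inv_mul_eq_one.1 h1).symm
  have hvM : v ∈ M := by
    apply hM1 a₀ ha₀1
    rw [hact, MulAut.conj_apply]
    group
  have hNM := hM2 v hvM hvo
  -- the image of `M`
  have hNle : normalizer ((zpowers g0 : Subgroup (Matrix.ProjectiveSpecialLinearGroup (Fin 2) F)) :
      Set (Matrix.ProjectiveSpecialLinearGroup (Fin 2) F)) ≤ M.map π := by
    intro n hn
    obtain ⟨n', rfl⟩ := hπs n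
    refine ⟨n', hNM ?_, rfl⟩
    apply mem_normalizer_zpowers
    have h1 : π n' * g0 * (π n')⁻¹ ∈ zpowers g0 := (mem_normalizer_iff.1 hn g0).1 (mem_zpowers g0)
    obtain ⟨j, hj⟩ := h1
    have hj' : g0 ^ j = π n' * g0 * (π n')⁻¹ := hj
    have h2 : (v ^ j)⁻¹ * (n' * v * n'⁻¹) ∈ center K := by
      rw [← hπ1, map_mul, map_inv, map_zpow, map_mul, map_mul, map_inv, hπv, ← hj', inv_mul_cancel]
    have h3 : (v ^ j)⁻¹ * (n' * v * n'⁻¹) = 1 := by
      apply hzp _ h2
      have h4 : n' * v * n'⁻¹ = v ^ j * ((v ^ j)⁻¹ * (n' * v * n'⁻¹)) := by group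
      have h5 : (n' * v * n'⁻¹) ^ p = 1 := by rw [conj_pow, hvp, mul_one, mul_inv_cancel]
      rw [h4, (Commute.mul_pow (mem_center_iff.1 h2 (v ^ j)) p)] at h5
      have h6 : (v ^ j) ^ p = 1 := by
        rw [← zpow_natCast, ← zpow_mul, mul_comm, zpow_mul, zpow_natCast, hvp, one_zpow]
      rwa [h6, one_mul] at h5
    rw [← (inv_mul_eq_one.1 h3)]
    exact zpow_mem_zpowers v j
  -- a noninner element
  obtain ⟨a, ha⟩ : ∃ a : A, ¬ ∃ g, ρ a = MulAut.conj g := by
    by_contra hcon
    push Not at hcon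
    let P : Subgroup (Matrix.ProjectiveSpecialLinearGroup (Fin 2) F) := ρ.range.comap MulAut.conj
    have hPm : P.map MulAut.conj = ρ.range := by
      rw [Subgroup.map_comap_eq, inf_eq_right]
      rintro _ ⟨a, rfl⟩
      obtain ⟨g, hg⟩ := hcon a
      exact ⟨g, hg.symm⟩
    have hPc : Nat.card P = Nat.card A := by
      rw [← hcard, ← hPm, Subgroup.card_map_of_injective hinj]
    have hPp : ∀ x ∈ P, x ^ p = 1 := by
      rintro x ⟨a, ha⟩
      apply hinj
      rw [map_pow, ← ha, ← map_pow, hAp, map_one, map_one]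
    have hPG : IsPGroup p P := fun x => ⟨1, Subtype.ext (by rw [pow_one]; exact hPp x x.2)⟩
    have hcyc := Walter.MetaPSL.isCyclic_of_isPGroup hodd (MulEquiv.refl _) hp.out hp2 hpF P hPG
    have h1 : Nat.card P ∣ p := by
      rw [← IsCyclic.exponent_eq_card]
      exact Monoid.exponent_dvd_of_forall_pow_eq_one fun x => Subtype.ext (hPp x x.2)
    have h2 := Nat.le_of_dvd hp.out.pos h1
    rw [hPc] at h2
    have h3 : p < p ^ 2 := by
      rw [pow_two]
      exact lt_mul_of_one_lt_left hp.out.pos hp.out.one_lt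
    omega
  have hρp : ρ a ^ p = 1 := by rw [← map_pow, hAp, map_one]
  have ha1 : a ≠ 1 := by
    rintro rfl
    exact ha ⟨1, by rw [map_one, map_one]⟩
  have h27 := card_of_not_inner hodd hp2 hρp ha
  have h2F : (2 : F) ≠ 0 := (ClassicalGeometry.PSLTorus.two_ne_zero_iff_odd F).2 hodd
  have hco := TorL2.isCoatom_normalizer (F := F) hodd (by omega) hp2 hpF (orderOf_eq_prime hg0p hg01)
  rcases hco.le_iff.1 hNle with h | h
  · -- `M` maps onto
    rw [eq_top_iff]
    intro y _
    have h1 : π y ∈ M.map π := by rw [h]; trivial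
    obtain ⟨y', hy', h2⟩ := h1
    have h3 : y'⁻¹ * y ∈ center K := by rw [← hπ1, map_mul, map_inv, h2, inv_mul_cancel]
    have h4 : y'⁻¹ * y ∈ M := hM1 a ha1 _ (hZc a _ h3)
    have h5 := M.mul_mem hy' h4
    rwa [mul_inv_cancel_left] at h5
  · exfalso
    rcases BpRee.PslOdd.dichotomy h2F hp.out hp2 hρp with h1 | ⟨-, h1⟩
    · exact ha h1
    · have h2 := h1 (zpowers g0) ?_ ?_ ?_
      · exact hg01 (zpowers_eq_bot.1 h2)
      · rw [Nat.card_zpowers, orderOf_eq_prime hg0p hg01]
        exact hp.out.odd_of_ne_two hp2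
      · have h3 : ρ a g0 = g0 := by
          apply hinj
          have h4 : MulAut.conj (ρ a g0) = ρ a * MulAut.conj g0 * (ρ a)⁻¹ := by
            apply MulEquiv.ext
            intro x
            rw [MulAut.mul_apply, MulAut.mul_apply, MulAut.conj_apply, MulAut.conj_apply, map_mul, map_mul,
              map_inv]
            congr 2
            exact (MulAut.apply_inv_self _ (ρ a) x).symm
          rw [h4, ← hg0, ← map_mul, hAc a a₀, map_mul, mul_assoc, mul_inv_cancel, mul_one]
        rintro _ ⟨j, rfl⟩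
        change ρ a (g0 ^ j) = g0 ^ j
        rw [map_zpow, h3]
      · intro d hd n hn
        -- a fixed lift of `d`
        obtain ⟨d', rfl⟩ := hπs d
        have h3 : d'⁻¹ * φ a d' ∈ center K := by
          rw [← hπ1, map_mul, map_inv, ← hρπ, hd, inv_mul_cancel]
        set z := d'⁻¹ * φ a d' with hz
        have h4 : ∀ j : ℕ, (φ a ^ j) d' = d' * z ^ j := by
          intro j
          induction j with
          | zero => simp
          | succ j ih =>
            rw [pow_succ', MulAut.mul_apply, ih, map_mul, map_pow, hZc a z h3]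
            have h5 : φ a d' = d' * z := by rw [hz]; group
            rw [h5, pow_succ', mul_assoc]
        have h5 := h4 p
        rw [← map_pow, hAp, map_one, MulAut.one_apply] at h5
        have h6 : z ^ p = 1 := by
          have := h5.symm
          rwa [mul_eq_left] at this
        have h7 := hzp z h3 h6
        have h8 : φ a d' = d' := (inv_mul_eq_one.1 (hz ▸ h7)).symm
        have h9 : d' ∈ M := hM1 a ha1 d' h8
        have h10 : π d' ∈ M.map π := ⟨d', h9, rfl⟩
        rw [h] at h10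
        exact (mem_normalizer_iff.1 h10 n).1 hn

end Gen

end Cfsg.Agent.H248.GenL2
end

-- part: H248/CompGen
section
/-!
# Components of type `L₂(q)`, `SL₂(q)` of involution centralisers in the configuration `Cex` (helper248)

* `le_of_inf` : a `p`-subgroup meeting a strongly `p`-embedded subgroup nontrivially is contained in it;
* `comp_conj` : the `D`-conjugates of a component of `D`;
* `Cex.centralizer_le` : `t ∈ H` an involution, `J` a component of `C_G(t)` with `J / Z(J) ≅ PSL₂(q)`, `|Z(J)| ≤ 2`,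
  `q` odd, `p ∣ |J|`, `p ∤ q`: `C_G(t) ≤ H`.
-/

set_option autoImplicit false
set_option linter.unusedSectionVars false

namespace Cfsg.Agent.H248.CompGen

open Cfsg Subgroup Cfsg.Agent.H233.T Cfsg.Agent.Nodes.Reps Cfsg.Agent.EvenType.StrongP
open Cfsg.Agent.SignalizersComponents.Components

variable {G : Type*} [Group G] [Finite G] {p : ℕ} [hp : Fact p.Prime] {H L : Subgroup G}

theorem le_of_inf (hH : IsStronglyPEmbedded p H) {R : Subgroup G} (hR : IsPGroup p R) (h : R ⊓ H ≠ ⊥) : R ≤ H := by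
  obtain ⟨g, hg⟩ := exists_conj_le_of_pgroup hH hR
  have h1 : R ≤ H.map (MulAut.conj g⁻¹).toMonoidHom := by
    intro x hx
    refine ⟨g * x * g⁻¹, hg ⟨x, hx, rfl⟩, ?_⟩
    change g⁻¹ * (g * x * g⁻¹) * g⁻¹⁻¹ = x
    group
  by_contra hcon
  have h2 : g⁻¹ ∉ H := by
    intro h3
    apply hcon
    refine h1.trans ?_
    rintro _ ⟨y, hy, rfl⟩
    exact H.mul_mem (H.mul_mem h3 hy) (H.inv_mem h3)
  apply inter hH h2
  have h3 : R ⊓ H ≤ H ⊓ H.map (MulAut.conj g⁻¹).toMonoidHom := le_inf inf_le_right (inf_le_left.trans h1)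
  refine dvd_trans ?_ (Subgroup.card_dvd_of_le h3)
  obtain ⟨n, hn⟩ := IsPGroup.iff_card.1 (hR.to_le (inf_le_left : R ⊓ H ≤ R))
  rw [hn]
  apply dvd_pow_self
  rintro rfl
  rw [pow_zero] at hn
  exact h (Subgroup.card_eq_one.1 hn)

theorem comp_conj {D J : Subgroup G} (hJD : J ≤ D) (hJ : IsComponent (J.subgroupOf D)) {x : G} (hx : x ∈ D) :
    cj x J = J ∨ ∀ y ∈ cj x J, ∀ z ∈ J, y * z = z * y := by
  by_cases h1 : cj x J = J
  · exact Or.inl h1
  · right
    have hc2 : IsComponent ((J.subgroupOf D).map (MulAut.conj (⟨x, hx⟩ : ↥D)).toMonoidHom) := isComponent_conj _ hJ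
    have hmap : ((J.subgroupOf D).map (MulAut.conj (⟨x, hx⟩ : ↥D)).toMonoidHom).map D.subtype = cj x J := by
      rw [Subgroup.map_map]
      have h4 : D.subtype.comp (MulAut.conj (⟨x, hx⟩ : ↥D)).toMonoidHom = ((MulAut.conj x).toMonoidHom).comp D.subtype := by
        ext x; rfl
      rw [h4, ← Subgroup.map_map, Subgroup.subgroupOf_map_subtype, inf_eq_left.2 hJD]
      rfl
    have hne : (J.subgroupOf D).map (MulAut.conj (⟨x, hx⟩ : ↥D)).toMonoidHom ≠ J.subgroupOf D := by
      intro h2
      apply h1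
      rw [← hmap, h2, Subgroup.subgroupOf_map_subtype, inf_eq_left.2 hJD]
    have h5 := component_le_centralizer_of_ne hc2 hJ hne
    intro y hy z hz
    rw [← hmap] at hy
    obtain ⟨y', hy', rfl⟩ := hy
    have h6 := mem_centralizer_iff.1 (h5 hy') ⟨z, hJD hz⟩ (mem_subgroupOf.2 hz)
    exact (congrArg Subtype.val h6).symm

theorem Sq.ne_bot {E : Subgroup G} (hE : Sq p E) : E ≠ ⊥ := by
  rintro rfl
  have h1 := hE.2.2
  rw [Subgroup.card_bot] at h1
  have h2 : 1 < p ^ 2 := Nat.one_lt_pow two_ne_zero hp.out.one_lt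
  omega

/-- the normal case -/
theorem le_of_normal (hH : IsStronglyPEmbedded p H) (hp2 : p ≠ 2) {J E : Subgroup G} (hE : Sq p E) (hEH : E ≤ H)
    (hEJ : E ≤ normalizer (J : Set G)) (hperf : commutator ↥J = ⊤) {F : Type*} [Field F] [Fintype F]
    (hodd : Odd (Fintype.card F)) (hpF : ¬ p ∣ Fintype.card F) (hZ : Nat.card (center ↥J) ≤ 2)
    (e : ↥J ⧸ center ↥J ≃* Matrix.ProjectiveSpecialLinearGroup (Fin 2) F) : J ≤ H := by
  have hN := EvenType.StrongP.normIn hH
  have hp3 : 3 ≤ p := by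
    have := hp.out.two_le
    omega
  set φ : ↥E →* MulAut ↥J := J.normalizerMonoidHom.comp (Subgroup.inclusion hEJ) with hφ
  have hφa : ∀ (a : ↥E) (y : ↥J), ((φ a y : ↥J) : G) = a * y * (a : G)⁻¹ := fun a y => rfl
  have key := GenL2.gen (p := p) (K := ↥J) (A := ↥E) (M := H.subgroupOf J) hodd hp2 hpF
    (fun a b => hE.1.is_comm.comm a b) (fun a => Subtype.ext (hE.2.1 a a.2)) hE.2.2 φ hperf ?_ e ?_ ?_ ?_
  · exact Subgroup.subgroupOf_eq_top.1 key
  · intro h
    have h1 := Nat.le_of_dvd Nat.card_pos h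
    omega
  · -- the action on the center
    intro a z hz
    have hz' : φ a z ∈ center ↥J := by
      have h1 := (inferInstance : (center ↥J).Characteristic)
      have h2 := Subgroup.characteristic_iff_map_eq.1 h1 (φ a)
      rw [← h2]
      exact ⟨z, hz, rfl⟩
    by_cases hz1 : z = 1
    · rw [hz1, map_one]
    · have h1 : φ a z ≠ 1 := fun h => hz1 ((MulEquiv.map_eq_one_iff (φ a)).1 h)
      by_contra hne
      classical
      have := Fintype.ofFinite (center ↥J)
      have h2 : ({1, ⟨z, hz⟩, ⟨φ a z, hz'⟩} : Finset (center ↥J)).card = 3 := by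
        refine Finset.card_eq_three.2 ⟨_, _, _, ?_, ?_, ?_, rfl⟩
        · intro h; exact hz1 (congrArg Subtype.val h).symm
        · intro h; exact h1 (congrArg Subtype.val h).symm
        · intro h; exact hne (congrArg Subtype.val h).symm
      have h3 := Finset.card_le_univ ({1, ⟨z, hz⟩, ⟨φ a z, hz'⟩} : Finset (center ↥J))
      rw [h2, ← Nat.card_eq_fintype_card] at h3
      omega
  · intro a ha y hy
    rw [mem_subgroupOf]
    refine Cfsg.Agent.H233.Core.centralizer_le hN (hEH a.2) (hE.2.1 a a.2) (fun h => ha (Subtype.ext h)) ?_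
    rw [mem_centralizer_singleton_iff]
    have h1 : (a : G) * y * (a : G)⁻¹ = y := by rw [← hφa, hy]
    calc (y : G) * a = (a * y * (a : G)⁻¹) * a := by rw [h1]
      _ = a * y := by group
  · intro v hv hvo y hy
    rw [mem_subgroupOf] at hv ⊢
    have hvo' : orderOf (v : G) = p := by rw [Subgroup.orderOf_coe, hvo]
    refine hN (zpowers (v : G)) ?_ (zpowers_le.2 hv) ?_ ?_
    · rw [IsPGroup.iff_card]
      exact ⟨1, by rw [Nat.card_zpowers, hvo', pow_one]⟩
    · rw [Ne, zpowers_eq_bot]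
      intro h
      rw [h, orderOf_one] at hvo'
      exact hp.out.one_lt.ne hvo'
    · apply GenL2.mem_normalizer_zpowers
      have h1 : y * v * y⁻¹ ∈ zpowers v := (mem_normalizer_iff.1 hy v).1 (mem_zpowers v)
      obtain ⟨k, hk⟩ := h1
      have hk' : v ^ k = y * v * y⁻¹ := hk
      refine ⟨k, ?_⟩
      change (v : G) ^ k = y * v * (y : G)⁻¹
      exact congrArg Subtype.val hk'

/-- **Components `L₂(q)` and `SL₂(q)` of the centraliser of an involution of `H`.** -/
theorem centralizer_le (C : Cex p H L) {t : G} (ht2 : orderOf t = 2) (htH : t ∈ H) {J : Subgroup G}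
    (hJD : J ≤ centralizer ({t} : Set G)) (hJ : IsComponent (J.subgroupOf (centralizer ({t} : Set G))))
    {F : Type*} [Field F] [Fintype F] (hodd : Odd (Fintype.card F)) (hpF : ¬ p ∣ Fintype.card F)
    (hpJ : p ∣ Nat.card J) (hZ : Nat.card (center ↥J) ≤ 2)
    (e : ↥J ⧸ center ↥J ≃* Matrix.ProjectiveSpecialLinearGroup (Fin 2) F) : centralizer ({t} : Set G) ≤ H := by
  set D : Subgroup G := centralizer ({t} : Set G) with hD
  obtain ⟨E, hE', hE⟩ := exists_sq (C.rk t htH ht2)
  have hEH : E ≤ H := hE'.trans inf_le_left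
  have hED : E ≤ D := hE'.trans inf_le_right
  by_cases hnorm : ∀ x ∈ D, cj x J = J
  · -- `J` is normal in `D`
    have hperf : commutator ↥J = ⊤ := by
      have h1 : commutator ↥(J.subgroupOf D) = ⊤ := (Group.isPerfect_def.1 hJ.2.1)
      have h2 := congrArg (Subgroup.map (subgroupOfEquivOfLe hJD).toMonoidHom) h1
      rw [commutator_def, Subgroup.map_commutator] at h2
      rw [commutator_def]
      have h3 : Subgroup.map (subgroupOfEquivOfLe hJD).toMonoidHom ⊤ = ⊤ :=
        Subgroup.map_top_of_surjective _ (subgroupOfEquivOfLe hJD).surjective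
      rwa [h3] at h2
    have hJH : J ≤ H := le_of_normal C.se C.odd hE hEH
      (fun x hx => mem_normalizer_iff_cj.2 (hnorm x (hED hx))) hperf hodd hpF hZ e
    intro x hx
    exact normalizer_le C.normIn hJH hpJ (mem_normalizer_iff_cj.2 (hnorm x hx))
  · push Not at hnorm
    obtain ⟨x0, hx0, hne⟩ := hnorm
    set N : Subgroup G := ⨆ x : ↥D, cj (x : G) J with hN
    have hle : ∀ x ∈ D, cj x J ≤ N := fun x hx => le_iSup (fun x : ↥D => cj (x : G) J) ⟨x, hx⟩
    have hDN : D ≤ normalizer (N : Set G) := by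
      intro d hd
      rw [mem_normalizer_iff_cj, hN, cj_iSup]
      apply le_antisymm
      · refine iSup_le ?_
        rintro ⟨x, hx⟩
        show cj d (cj x J) ≤ _
        rw [← cj_mul]
        exact hle _ (mul_mem hd hx)
      · refine iSup_le ?_
        rintro ⟨x, hx⟩
        show cj x J ≤ _
        have h4 : x = d * (d⁻¹ * x) := by group
        rw [h4, cj_mul]
        exact le_iSup (fun x : ↥D => cj d (cj (x : G) J)) ⟨d⁻¹ * x, mul_mem (inv_mem hd) hx⟩
    -- the conjugates are normal in `N`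
    have hNn : ∀ x ∈ D, N ≤ normalizer ((cj x J : Subgroup G) : Set G) := by
      intro x hx
      refine iSup_le ?_
      rintro ⟨y, hy⟩
      show cj y J ≤ _
      rcases comp_conj hJD hJ (mul_mem (inv_mem hx) hy) with h1 | h1
      · have h2 : cj y J = cj x J := by
          have h4 : y = x * (x⁻¹ * y) := by group
          rw [h4, cj_mul, h1]
        rw [h2]
        exact le_normalizer
      · refine le_trans ?_ (Subgroup.centralizer_le_normalizer _)
        intro a ha
        rw [Subgroup.mem_centralizer_iff]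
        intro b hb
        rw [mem_cj] at ha
        have hb' := mem_cj.1 hb
        have h2 : x⁻¹ * a * x ∈ cj (x⁻¹ * y) J := by
          rw [mem_cj]
          have h3 : (x⁻¹ * y)⁻¹ * (x⁻¹ * a * x) * (x⁻¹ * y) = y⁻¹ * a * y := by group
          rw [h3]
          exact ha
        have h3 := h1 _ h2 _ hb'
        have h4 : x * (x⁻¹ * a * x * (x⁻¹ * b * x)) * x⁻¹ = x * (x⁻¹ * b * x * (x⁻¹ * a * x)) * x⁻¹ := by rw [h3]
        have h5 : x * (x⁻¹ * a * x * (x⁻¹ * b * x)) * x⁻¹ = a * b := by group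
        have h6 : x * (x⁻¹ * b * x * (x⁻¹ * a * x)) * x⁻¹ = b * a := by group
        rw [h5, h6] at h4
        exact h4.symm
    -- an `E`-invariant Sylow subgroup
    have hS : ¬ p ∣ Nat.card (Sylow p ↥N) := by
      have h1 := card_sylow_modEq_one p ↥N
      intro h2
      have h3 : Nat.card (Sylow p ↥N) ≡ 0 [MOD p] := (Nat.modEq_zero_iff_dvd).2 h2
      have h4 := h3.symm.trans h1
      have h5 : p ∣ 1 := (Nat.modEq_zero_iff_dvd).1 h4.symm
      exact hp.out.one_lt.ne' (Nat.dvd_one.1 h5)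
    obtain ⟨X, hX⟩ := exists_sylow_inv (r := p) hE.isPGroup (hED.trans hDN) hS
    set Q : Subgroup G := (X : Subgroup ↥N).map N.subtype with hQ
    have hQp : IsPGroup p Q := X.isPGroup'.map _
    have hQE : IsPGroup p ↥(Q ⊔ E) := by
      have hn : E ≤ normalizer (Q : Set G) := fun x hx => mem_normalizer_iff_cj.2 (hX x hx)
      exact hQp.to_sup_of_normal_left' hE.isPGroup hn
    have hQH : Q ≤ H := by
      refine le_trans le_sup_left (le_of_inf C.se hQE ?_)
      intro h0
      apply Sq.ne_bot hE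
      rw [eq_bot_iff, ← h0]
      exact le_inf le_sup_right hEH
    -- elements of order `p` in the components
    have hel : ∀ x ∈ D, ∃ a ∈ cj x J, a ∈ H ∧ a ^ p = 1 ∧ a ≠ 1 := by
      intro x hx
      have hc : p ∣ Nat.card ↥(cj x J) := by
        unfold cj
        rwa [Subgroup.card_map_of_injective (MulAut.conj x).injective]
      obtain ⟨⟨a, ha⟩, hao⟩ := exists_prime_orderOf_dvd_card' p hc
      have hao' : orderOf a = p := by rwa [Subgroup.orderOf_mk] at hao
      have haN : a ∈ N := hle x hx ha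
      have hpa : IsPGroup p (zpowers (⟨a, haN⟩ : ↥N)) := by
        rw [IsPGroup.iff_card]
        exact ⟨1, by rw [Nat.card_zpowers, Subgroup.orderOf_mk, hao', pow_one]⟩
      obtain ⟨P, hP⟩ := hpa.exists_le_sylow
      obtain ⟨n, hn⟩ := MulAction.exists_smul_eq ↥N P X
      have h1 : n * ⟨a, haN⟩ * n⁻¹ ∈ (X : Subgroup ↥N) := by
        rw [← hn]
        exact ⟨_, hP (mem_zpowers _), rfl⟩
      refine ⟨n * a * (n : G)⁻¹, ?_, hQH ⟨_, h1, rfl⟩, ?_, ?_⟩
      · exact (mem_normalizer_iff.1 (hNn x hx n.2) a).1 ha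
      · rw [conj_pow, ← hao', pow_orderOf_eq_one, mul_one, mul_inv_cancel]
      · intro h
        rw [conj_eq_one_iff] at h
        rw [h, orderOf_one] at hao'
        exact hp.out.one_lt.ne hao'
    have hall : ∀ x ∈ D, cj x J ≤ H := by
      intro x hx
      obtain ⟨a, ha, haH, hap, ha1⟩ := hel x hx
      have hcomm : ∀ b ∈ cj x J, ∀ c ∈ cj (x * x0) J, b * c = c * b := by
        rcases comp_conj hJD hJ hx0 with h1 | h1
        · exact absurd h1 hne
        · intro b hb c hc
          rw [cj_mul] at hc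
          have hb' := mem_cj.1 hb
          have hc' := mem_cj.1 hc
          have h2 := h1 _ hc' _ hb'
          have h3 : x * (x⁻¹ * c * x * (x⁻¹ * b * x)) * x⁻¹ = x * (x⁻¹ * b * x * (x⁻¹ * c * x)) * x⁻¹ := by rw [h2]
          have h4 : x * (x⁻¹ * c * x * (x⁻¹ * b * x)) * x⁻¹ = c * b := by group
          have h5 : x * (x⁻¹ * b * x * (x⁻¹ * c * x)) * x⁻¹ = b * c := by group
          rw [h4, h5] at h3
          exact h3.symm
      have hc : p ∣ Nat.card ↥(cj (x * x0) J) := by
        unfold cj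
        rwa [Subgroup.card_map_of_injective (MulAut.conj (x * x0)).injective]
      exact le_sup_left.trans (two_le C.normIn hcomm ha haH hap ha1 hc)
    have hNH : N ≤ H := iSup_le fun x => hall x x.2
    have hpN : p ∣ Nat.card N := by
      have h1 := hle 1 (one_mem D)
      rw [cj_one] at h1
      exact hpJ.trans (Subgroup.card_dvd_of_le h1)
    exact hDN.trans (normalizer_le C.normIn hNH hpN)

end Cfsg.Agent.H248.CompGen
end

-- part: H248/TRow
section
/-!
# Theorem T, odd cross characteristic: 2-central involutions with a subnormal `SL₂(q)` in the centraliser (helper248)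

* `LongAt q z` : `C(z)` has a subnormal subgroup isomorphic to `SL₂(q)`; `TL q X` : `q` is odd and this holds for the 2-central
  involutions of `X`;
* `Rest L` : `L` is not alternating of degree at least 5 and not a Suzuki group;
* `row` : `Cex p H L`, `L` of Lie type of characteristic `r ≠ p`, `TL q L`, `p ∣ |C_G(z)|` for the 2-central involutions `z` of
  `L`: contradiction (uses Holt's theorem).
-/

set_option autoImplicit false
set_option linter.unusedSectionVars false

namespace Cfsg.Agent.H248.TRow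

open Cfsg Subgroup Cfsg.Agent.H233.T Cfsg.Agent.Nodes.Reps Cfsg.Agent.EvenType.StrongP Cfsg.Agent.KFacts.RgdFilt
open Cfsg.Agent.SignalizersComponents.Components

section Defs

variable {X Y : Type*} [Group X] [Group Y]

/-- `C(z)` has a subnormal subgroup isomorphic to `SL₂(q)` -/
def LongAt (q : ℕ) (z : X) : Prop :=
  ∃ J : Subgroup X, J ≤ centralizer ({z} : Set X) ∧ (J.subgroupOf (centralizer ({z} : Set X))).IsSubnormal ∧
    ∃ (F : Type) (_ : Field F) (_ : Fintype F), Fintype.card F = q ∧ Nonempty (↥J ≃* Matrix.SpecialLinearGroup (Fin 2) F)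

/-- the 2-central involutions -/
def TL (q : ℕ) (X : Type*) [Group X] : Prop := Odd q ∧ ∀ z : X, IsTwoCentralInvolution z → LongAt q z

theorem LongAt.equiv {q : ℕ} (α : X ≃* Y) {z : X} (h : LongAt q z) : LongAt q (α z) := by
  obtain ⟨J, h1, h2, F, i1, i2, hF, ⟨e⟩⟩ := h
  have hle : J.map α.toMonoidHom ≤ centralizer ({α z} : Set Y) := by
    rintro _ ⟨x, hx, rfl⟩
    rw [mem_centralizer_singleton_iff]
    change α x * α z = α z * α x
    rw [← map_mul, mem_centralizer_singleton_iff.1 (h1 hx), map_mul]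
  refine ⟨J.map α.toMonoidHom, hle, ?_, F, i1, i2, hF, ⟨(J.equivMapOfInjective _ α.injective).symm.trans e⟩⟩
  have hmem : ∀ x : ↥(centralizer ({α z} : Set Y)), α.symm x ∈ centralizer ({z} : Set X) := by
    intro x
    rw [mem_centralizer_singleton_iff]
    apply α.injective
    rw [map_mul, map_mul, α.apply_symm_apply]
    exact mem_centralizer_singleton_iff.1 x.2
  let f : ↥(centralizer ({α z} : Set Y)) →* ↥(centralizer ({z} : Set X)) :=
    { toFun := fun x => ⟨α.symm x, hmem x⟩
      map_one' := Subtype.ext (map_one α.symm)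
      map_mul' := fun x y => Subtype.ext (map_mul α.symm _ _) }
  have h3 := h2.comap f
  have h4 : (J.subgroupOf (centralizer ({z} : Set X))).comap f =
      (J.map α.toMonoidHom).subgroupOf (centralizer ({α z} : Set Y)) := by
    ext x
    rw [mem_comap, mem_subgroupOf, mem_subgroupOf]
    constructor
    · intro h
      exact ⟨_, h, α.apply_symm_apply _⟩
    · rintro ⟨y, hy, e⟩
      have h5 : α.symm x = y := by
        rw [← e]; exact α.symm_apply_apply y
      have h6 : ((f x : ↥(centralizer ({z} : Set X))) : X) = y := h5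
      rw [h6]
      exact hy
  rwa [h4] at h3

theorem two_central_equiv [Finite X] [Finite Y] (α : X ≃* Y) {z : X} (h : IsTwoCentralInvolution z) :
    IsTwoCentralInvolution (α z) := by
  obtain ⟨h1, P, h2, h3⟩ := h
  refine ⟨by rw [MulEquiv.orderOf_eq, h1], P.mapSurjective (f := α.toMonoidHom) α.surjective, ?_, ?_⟩
  · exact ⟨z, h2, rfl⟩
  · rintro x hx
    have hx' : x ∈ (P : Subgroup X).map α.toMonoidHom := hx
    obtain ⟨y, hy, rfl⟩ := hx'
    change α y * α z = α z * α y
    rw [← map_mul, h3 y hy, map_mul]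

theorem TL.equiv [Finite X] [Finite Y] {q : ℕ} (α : X ≃* Y) (h : TL q X) : TL q Y := by
  refine ⟨h.1, fun z hz => ?_⟩
  have h1 := h.2 (α.symm z) (two_central_equiv α.symm hz)
  have h2 := h1.equiv α
  rwa [α.apply_symm_apply] at h2

/-- 2-central involutions exist -/
theorem exists_two_central [Finite X] (h : 2 ∣ Nat.card X) : ∃ z : X, IsTwoCentralInvolution z := by
  obtain ⟨P⟩ : Nonempty (Sylow 2 X) := inferInstance
  have : Fact (Nat.Prime 2) := ⟨Nat.prime_two⟩
  have h1 := P.dvd_card_of_dvd_card h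
  have hnt : Nontrivial ↥(P : Subgroup X) := by
    rw [← Finite.one_lt_card_iff_nontrivial]
    have := Nat.le_of_dvd Nat.card_pos h1
    omega
  have hc := P.isPGroup'.center_nontrivial
  have hcp : IsPGroup 2 (center ↥(P : Subgroup X)) := P.isPGroup'.to_subgroup _
  obtain ⟨n, hn⟩ := IsPGroup.iff_card.1 hcp
  have h2 : 2 ∣ Nat.card (center ↥(P : Subgroup X)) := by
    rw [hn]
    apply dvd_pow_self
    rintro rfl
    rw [pow_zero] at hn
    have := Finite.one_lt_card_iff_nontrivial.2 hc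
    omega
  obtain ⟨z, hz⟩ := exists_prime_orderOf_dvd_card' 2 h2
  refine ⟨((z : ↥(P : Subgroup X)) : X), ?_, P, (z : ↥(P : Subgroup X)).2, ?_⟩
  · rw [Subgroup.orderOf_coe, Subgroup.orderOf_coe, hz]
  · intro x hx
    exact congrArg Subtype.val (mem_center_iff.1 z.2 ⟨x, hx⟩)

/-- one class of involutions -/
def One (X : Type*) [Group X] : Prop := ∀ s t : X, orderOf s = 2 → orderOf t = 2 → ∃ g : X, g * s * g⁻¹ = t

theorem One.equiv (α : X ≃* Y) (h : One X) : One Y := by
  intro s t hs ht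
  obtain ⟨g, hg⟩ := h (α.symm s) (α.symm t) (by rw [MulEquiv.orderOf_eq, hs]) (by rw [MulEquiv.orderOf_eq, ht])
  refine ⟨α g, ?_⟩
  have h1 := congrArg α hg
  rw [map_mul, map_mul, map_inv, α.apply_symm_apply, α.apply_symm_apply] at h1
  exact h1

theorem TL.of_one {q : ℕ} (h1 : One X) (h : OddHalf.LongSL.HasLong q X) : TL q X := by
  obtain ⟨j, J, h2, -, h4, h5, F, i1, i2, hF, hq, e⟩ := h
  refine ⟨hq, fun z hz => ?_⟩
  obtain ⟨g, rfl⟩ := h1 j z h2 hz.1
  exact LongAt.equiv (MulAut.conj g) ⟨J, h4, h5, F, i1, i2, hF, e⟩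

end Defs

section Row

universe u

variable {G : Type u} [Group G] [Finite G] {p : ℕ} [hp : Fact p.Prime] {H L : Subgroup G}

/-- the groups of Holt's list, not in the range of `Cex.no_filt_two` -/
def Rest (L : Type*) [Group L] : Prop :=
  ¬ Lie.IsoSuzuki L ∧ ∀ n : ℕ, 5 ≤ n → ¬ Nonempty (L ≃* ↥(alternatingGroup (Fin n)))

theorem conj_two_central (hn : L.Normal) {z : ↥L} (hz : IsTwoCentralInvolution z) (g : G) :
    IsTwoCentralInvolution (⟨g * z * g⁻¹, hn.conj_mem z z.2 g⟩ : ↥L) :=
  two_central_equiv (MulAut.conjNormal g) hz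

/-- **Holt** -/
theorem holt_false (hHolt : Cex.HoltStmt.{u}) (hR : Rest ↥L) (C : Cex p H L) (t : ↥L) (ht : (t : G) ∈ H)
    (ht2 : IsTwoCentralInvolution t) (hc : centralizer ({(t : G)} : Set G) ≤ H) : False := by
  rcases C.holt hHolt t ht ht2 hc with ⟨F, _, _, a, ha, hF, ⟨e⟩⟩ | ⟨F, _, _, a, ha, hF, ⟨e⟩⟩ | h | ⟨n, hn, h⟩
  · have hf : Fact (Nat.Prime 2) := ⟨Nat.prime_two⟩
    have hc2 : CharP F 2 := by
      obtain ⟨r, hr⟩ := CharP.exists F
      have hrp : Fact r.Prime := ⟨CharP.char_is_prime F r⟩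
      obtain ⟨n, -, hn⟩ := FiniteField.card F r
      rw [hF] at hn
      have h1 : r = 2 := by
        have h2 : r ∣ 2 ^ a := by rw [hn]; exact dvd_pow_self r n.ne_zero
        exact (Nat.prime_dvd_prime_iff_eq hrp.out Nat.prime_two).1 (hrp.out.dvd_of_dvd_pow h2)
      rwa [← h1]
    have : Finite (Matrix.ProjectiveSpecialLinearGroup (Fin 2) F) := Finite.of_equiv _ e.toEquiv
    exact C.no_filt_two (HasFilt.of_equiv e.symm (KFacts.RgdFiltClass.hasFilt_PSL (F := F) 1))
  · have hf : Fact (Nat.Prime 2) := ⟨Nat.prime_two⟩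
    have hc2 : CharP F 2 := by
      obtain ⟨r, hr⟩ := CharP.exists F
      have hrp : Fact r.Prime := ⟨CharP.char_is_prime F r⟩
      obtain ⟨n, -, hn⟩ := FiniteField.card F r
      rw [hF] at hn
      have h1 : r = 2 := by
        have h2 : r ∣ (2 ^ a) ^ 2 := by rw [hn]; exact dvd_pow_self r n.ne_zero
        exact (Nat.prime_dvd_prime_iff_eq hrp.out Nat.prime_two).1
          (hrp.out.dvd_of_dvd_pow (hrp.out.dvd_of_dvd_pow h2))
      rwa [← h1]
    have : Finite (PSU 3 F (2 ^ a)) := Finite.of_equiv _ e.toEquiv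
    exact C.no_filt_two (HasFilt.of_equiv e.symm (KFacts.RgdFiltClass.hasFilt_PSU hF le_rfl))
  · exact hR.1 h
  · exact hR.2 n hn h

theorem card_center_SL {F : Type*} [Field F] [Fintype F] : Nat.card (center (Matrix.SpecialLinearGroup (Fin 2) F)) ≤ 2 := by
  classical
  have h1 : ∀ z ∈ center (Matrix.SpecialLinearGroup (Fin 2) F), z = 1 ∨ z = -1 := by
    intro z hz
    obtain ⟨r, hr, hrz⟩ := Matrix.SpecialLinearGroup.mem_center_iff.1 hz
    rw [Fintype.card_fin] at hr
    have h2 : (r - 1) * (r + 1) = 0 := by linear_combination hr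
    rcases mul_eq_zero.1 h2 with h | h
    · left
      apply Subtype.ext
      rw [← hrz, sub_eq_zero.1 h, map_one]
      rfl
    · right
      apply Subtype.ext
      have h3 : r = -1 := by linear_combination h
      rw [← hrz, h3, map_neg, map_one]
      rfl
  have h2 : ((center (Matrix.SpecialLinearGroup (Fin 2) F) : Set (Matrix.SpecialLinearGroup (Fin 2) F))) ⊆ ({1, -1} : Set _) := by
    intro z hz
    exact h1 z hz
  have h3 := Set.ncard_le_ncard h2 (Set.toFinite _)
  have h4 : Nat.card (center (Matrix.SpecialLinearGroup (Fin 2) F)) =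
      ((center (Matrix.SpecialLinearGroup (Fin 2) F) : Set (Matrix.SpecialLinearGroup (Fin 2) F))).ncard := rfl
  rw [h4]
  refine h3.trans ?_
  refine (Set.ncard_insert_le _ _).trans ?_
  rw [Set.ncard_singleton]

/-- the centraliser of an involution of `H` with a subnormal `SL₂(q)` lies in `H` -/
theorem le_of_long (C : Cex p H L) {r : ℕ} [hr : Fact r.Prime] (hL : HasFilt r ↥L) (hpr : p ≠ r) {z : ↥L}
    (hz2 : orderOf z = 2) (hzH : (z : G) ∈ H) {q : ℕ} (hq : Odd q) (hrq : r ∣ q) (hz : LongAt q z) :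
    centralizer ({(z : G)} : Set G) ≤ H := by
  obtain ⟨J, h1, h2, F, i1, i2, hF, ⟨e⟩⟩ := hz
  have hzo : orderOf (z : G) = 2 := by rw [Subgroup.orderOf_coe]; exact hz2
  have hn := C.nrm
  have hd : p ∣ Nat.card (centralizer ({(z : G)} : Set G)) :=
    (C.rk_dvd (z : G) hzH hzo).trans (Subgroup.card_dvd_of_le inf_le_right)
  have hpq : p ∣ Fintype.card F + 1 := by
    by_contra hcon
    exact C.long_not_dvd hL hpr h1 h2 hz2 (by rw [hF]; exact hrq) e hcon hd
  have hchar : CharP F r := by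
    obtain ⟨r', hcr⟩ := CharP.exists F
    have hr'p : r'.Prime := (CharP.char_is_prime_or_zero F r').resolve_right (CharP.char_ne_zero_of_finite F r')
    have : Fact r'.Prime := ⟨hr'p⟩
    obtain ⟨n, -, hn⟩ := FiniteField.card F r'
    rw [← hF, hn] at hrq
    have h3 := (Nat.prime_dvd_prime_iff_eq hr.out hr'p).1 (hr.out.dvd_of_dvd_pow hrq)
    rw [h3]; exact hcr
  have hpF : ¬ p ∣ Fintype.card F := by
    obtain ⟨n, -, hn⟩ := FiniteField.card F r
    rw [hn]
    intro h
    exact hpr ((Nat.prime_dvd_prime_iff_eq hp.out hr.out).1 (hp.out.dvd_of_dvd_pow h))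
  have hp3 : 3 ≤ p := by
    have h3 := hp.out.two_le
    have h4 := C.odd
    omega
  have hodd : Odd (Fintype.card F) := by rw [hF]; exact hq
  have h5 : 5 ≤ Fintype.card F := by
    have h3 := Nat.le_of_dvd (Nat.succ_pos _) hpq
    obtain ⟨k, hk⟩ := hodd
    have h4 : 2 ∣ Fintype.card F + 1 := ⟨k + 1, by omega⟩
    have h6 : 2 * p ∣ Fintype.card F + 1 := by
      refine Nat.Coprime.mul_dvd_of_dvd_of_dvd ?_ h4 hpq
      exact (Nat.coprime_primes Nat.prime_two hp.out).2 (Ne.symm C.odd)
    have h7 := Nat.le_of_dvd (Nat.succ_pos _) h6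
    (clear * - hp3 h7; omega)
  -- the component
  set JG : Subgroup G := J.map L.subtype with hJG
  have hJD : JG ≤ centralizer ({(z : G)} : Set G) := by
    rintro _ ⟨x, hx, rfl⟩
    rw [mem_centralizer_singleton_iff]
    exact congrArg Subtype.val (mem_centralizer_singleton_iff.1 (h1 hx))
  have e' : ↥JG ≃* Matrix.SpecialLinearGroup (Fin 2) F := (J.equivMapOfInjective _ L.subtype_injective).symm.trans e
  have hqs : IsQuasisimple ↥JG :=
    isQuasisimple_of_mulEquiv e'.symm (SignalizersComponents.SLQuasisimple.isQuasisimple_two (by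
      rw [Nat.card_eq_fintype_card]; omega))
  have hcomp : IsComponent (JG.subgroupOf (centralizer ({(z : G)} : Set G))) :=
    ⟨subnormal_centralizer hn h1 h2, isQuasisimple_of_mulEquiv (subgroupOfEquivOfLe hJD).symm hqs⟩
  have hcardJ : Nat.card JG = Fintype.card F * (Fintype.card F ^ 2 - 1) := by
    classical
    rw [Nat.card_congr e'.toEquiv, ClassicalGeometry.MinIndexPSL2.card_sl2, Nat.card_eq_fintype_card]
  have hpJ : p ∣ Nat.card JG := by
    rw [hcardJ]
    have h3 : Fintype.card F ^ 2 - 1 = (Fintype.card F + 1) * (Fintype.card F - 1) := by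
      have := Nat.sq_sub_sq (Fintype.card F) 1
      rwa [one_pow] at this
    rw [h3]
    exact (hpq.mul_right _).mul_left _
  have hce : center ↥JG ≃* center (Matrix.SpecialLinearGroup (Fin 2) F) := CpQuot.Congr.ce e'
  have hZ : Nat.card (center ↥JG) ≤ 2 := by
    rw [Nat.card_congr hce.toEquiv]
    exact card_center_SL
  have eQ : ↥JG ⧸ center ↥JG ≃* Matrix.ProjectiveSpecialLinearGroup (Fin 2) F := by
    refine QuotientGroup.congr _ _ e' ?_
    ext x
    constructor
    · rintro ⟨y, hy, rfl⟩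
      rw [mem_center_iff]
      intro w
      have h3 := mem_center_iff.1 hy (e'.symm w)
      have h4 := congrArg e' h3
      rw [map_mul, map_mul, e'.apply_symm_apply] at h4
      exact h4
    · intro hx
      refine ⟨e'.symm x, ?_, e'.apply_symm_apply x⟩
      rw [SetLike.mem_coe, mem_center_iff]
      intro w
      apply e'.injective
      rw [map_mul, map_mul, e'.apply_symm_apply]
      exact mem_center_iff.1 hx _
  exact CompGen.centralizer_le C hzo hzH hJD hcomp hodd hpF hpJ hZ eQ

/-- **The row.** -/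
theorem row (hHolt : Cex.HoltStmt.{u}) (hR : Rest ↥L) (C : Cex p H L) {r : ℕ} [hr : Fact r.Prime] (hL : HasFilt r ↥L)
    (hpr : p ≠ r) {q : ℕ} (hrq : r ∣ q) (hTL : TL q ↥L)
    (hz : ∃ z : ↥L, IsTwoCentralInvolution z ∧ p ∣ Nat.card (centralizer ({(z : G)} : Set G))) : False := by
  obtain ⟨z, hz, hd⟩ := hz
  obtain ⟨g, hg⟩ := C.inv_conj hd
  have hn := C.nrm
  have hz' := conj_two_central hn hz g
  exact holt_false hHolt hR C _ hg hz' (le_of_long C hL hpr hz'.1 hg hTL.1 hrq (hTL.2 _ hz'))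

/-- **one class of involutions** -/
theorem row_one (hHolt : Cex.HoltStmt.{u}) (hR : Rest ↥L) (C : Cex p H L) {r : ℕ} [hr : Fact r.Prime] (hL : HasFilt r ↥L)
    (hpr : p ≠ r) {q : ℕ} (hrq : r ∣ q) (hlong : OddHalf.LongSL.HasLong q ↥L) (hone : One ↥L) : False := by
  obtain ⟨t, ht, ht2⟩ := C.even
  have hto : orderOf (⟨t, ht.2⟩ : ↥L) = 2 := by rw [Subgroup.orderOf_mk, ht2]
  obtain ⟨z, hz⟩ := exists_two_central (X := ↥L) (by rw [← hto]; exact _root_.orderOf_dvd_natCard _)
  obtain ⟨g, hg⟩ := hone z ⟨t, ht.2⟩ hz.1 hto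
  have hz' : IsTwoCentralInvolution (⟨t, ht.2⟩ : ↥L) := by
    rw [← hg]
    exact two_central_equiv (MulAut.conj g) hz
  refine row hHolt hR C hL hpr hrq (TL.of_one hone hlong) ⟨_, hz', ?_⟩
  exact (C.rk_dvd t ht.1 ht2).trans (Subgroup.card_dvd_of_le inf_le_right)

end Row

end Cfsg.Agent.H248.TRow
end

-- part: H248/RowCyc
section
/-!
# Theorem T: groups with cyclic `Out` (helper248)

* `exists_inner` : `Cex p H L`, `CycOut L`: a noncyclic elementary abelian `p`-subgroup contains a nontrivial element of `L`;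
* `row_sz` : the Suzuki groups; `holt_false'` : Holt's theorem without hypotheses on `L`.
-/

set_option autoImplicit false
set_option linter.unusedSectionVars false

namespace Cfsg.Agent.H248.RowCyc

open Cfsg Subgroup Cfsg.Agent.H233.T Cfsg.Agent.H233.Core Cfsg.Agent.Nodes.Reps Cfsg.Agent.H248.TRow Cfsg.Agent.EvenType.StrongP

universe u

variable {G : Type u} [Group G] [Finite G] {p : ℕ} [hp : Fact p.Prime] {H L : Subgroup G}

theorem conjNormal_injective (C : Cex p H L) [hn : L.Normal] : Function.Injective (MulAut.conjNormal (H := L)) := by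
  rw [injective_iff_map_eq_one]
  intro x hx
  have h1 : x ∈ centralizer (L : Set G) := by
    rw [mem_centralizer_iff]
    intro y hy
    have h2 := congrArg (fun φ : MulAut ↥L => ((φ ⟨y, hy⟩ : ↥L) : G)) hx
    have h3 : x * y * x⁻¹ = y := by
      rw [MulAut.conjNormal_apply] at h2
      exact h2
    exact (mul_inv_eq_iff_eq_mul.1 h3).symm
  rwa [C.cent, mem_bot] at h1

theorem exists_inner (C : Cex p H L) (hc : H523.CycOut ↥L) {E : Subgroup G} (hE : Sq p E) : ∃ x ∈ E, x ≠ 1 ∧ x ∈ L := by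
  by_contra hcon
  push Not at hcon
  have hn := C.nrm
  have hinj := conjNormal_injective C
  have h1 : IsCyclic ↥(E.map (MulAut.conjNormal (H := L))) := by
    refine hc.isCyclic ?_
    rintro _ ⟨x, hx, rfl⟩ ⟨g, hg⟩
    have hxL : x ∈ L := by
      have h2 : MulAut.conjNormal (H := L) x ∈ (MulAut.conj (G := ↥L)).range := ⟨g, hg.symm⟩
      exact (Cex.mem_iff_inner C x).2 h2
    by_contra h3
    exact hcon x hx (fun h4 => h3 (by rw [h4, map_one])) hxL
  have h2 : IsCyclic ↥E := isCyclic_of_injective ((E.equivMapOfInjective _ hinj).toMonoidHom)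
    (E.equivMapOfInjective _ hinj).injective
  exact not_isCyclic hE.2.1 hE.2.2 h2

/-- the Suzuki groups -/
theorem row_sz (C : Cex p H L) (h : Lie.IsoSuzuki ↥L) : False := by
  obtain ⟨t, ht, ht2, E, hE, -, hEt⟩ := C.exists_invol
  obtain ⟨x, hx, hx1, hxL⟩ := exists_inner C (H523.cycOut_suzuki h) hE
  have hto : orderOf (⟨t, ht.2⟩ : ↥L) = 2 := by rw [Subgroup.orderOf_mk, ht2]
  have h1 := SignalizersComponents.BalEndSz.isPGroup_centralizer_suzuki h hto
  have h2 : (⟨x, hxL⟩ : ↥L) ∈ centralizer ({(⟨t, ht.2⟩ : ↥L)} : Set ↥L) := by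
    rw [mem_centralizer_singleton_iff]
    exact Subtype.ext (mem_centralizer_singleton_iff.1 (hEt hx))
  obtain ⟨k, hk⟩ := h1 ⟨_, h2⟩
  have h3 : x ^ 2 ^ k = 1 := congrArg (fun y : ↥(centralizer ({(⟨t, ht.2⟩ : ↥L)} : Set ↥L)) => ((y : ↥L) : G)) hk
  have h4 : x ^ p = 1 := hE.2.1 x hx
  have h5 : orderOf x ∣ Nat.gcd (2 ^ k) p := Nat.dvd_gcd (orderOf_dvd_of_pow_eq_one h3) (orderOf_dvd_of_pow_eq_one h4)
  have h6 : Nat.gcd (2 ^ k) p = 1 := Nat.Coprime.pow_left k ((Nat.coprime_primes Nat.prime_two hp.out).2 (Ne.symm C.odd))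
  rw [h6, Nat.dvd_one, orderOf_eq_one_iff] at h5
  exact hx1 h5

/-- Holt's theorem for `Cex` -/
theorem rest (C : Cex p H L) : Rest ↥L := ⟨fun h => row_sz C h, fun _ hn h => h.elim fun e => H232.Row.row_alt C hn e⟩

/-- **Holt** -/
theorem holt_false' (hHolt : Cex.HoltStmt.{u}) (C : Cex p H L) (t : ↥L) (ht : (t : G) ∈ H)
    (ht2 : IsTwoCentralInvolution t) (hc : centralizer ({(t : G)} : Set G) ≤ H) : False :=
  holt_false hHolt (rest C) C t ht ht2 hc

end Cfsg.Agent.H248.RowCyc
end
end

-- part: H248/RowTwF4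
section
set_option linter.all false
open scoped Cfsg.Agent.FastGrp

/-!
# Theorem T: `²F₄(q)`, `q ≥ 8` (helper248)
-/

set_option autoImplicit false
set_option linter.unusedSectionVars false

namespace Cfsg.Agent.H248.RowTwF4

open Cfsg Subgroup Cfsg.Agent.H233.T Cfsg.Agent.H233.Core Cfsg.Agent.Nodes.Reps Cfsg.Agent.EvenType.StrongP

universe u v

/-- the pair for `²F₄(q)` -/
theorem exists_pair {X : Type v} [Group X] [Finite X] (h : Lie.Iso2F4 X) {p : ℕ} [hp : Fact p.Prime] (hp2 : p ≠ 2)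
    {A : Subgroup (MulAut X)} (hA : IsPGroup p A) {t : X} (ht : orderOf t = 2) (hAt : ∀ α ∈ A, α t = t) :
    ∃ V W : Subgroup X, IsPGroup 2 V ∧ IsPGroup 2 W ∧ (∀ α ∈ A, V.map α.toMonoidHom = V) ∧
      (∀ α ∈ A, W.map α.toMonoidHom = W) ∧ V ⊔ W = ⊤ := by
  obtain ⟨F, _, _, m, hm, hK, ⟨e⟩⟩ := h
  obtain ⟨φ, hφ⟩ := Cfsg.Agent.ChevalleyStructure.TwF4.TwistedFix.exists_rln hK
  have := Cfsg.Agent.ChevalleyStructure.TwF4.Twisted.charP_two hK
  have hfin : Finite ↥(Lie.twistedF4 F (2 ^ m)) := inferInstance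
  have hF : ∃ c : Fˣ, c ≠ 1 := by
    have h1 : 1 < Nat.card Fˣ := by
      rw [Nat.card_units, Nat.card_eq_fintype_card, hK]
      have : 2 ^ 3 ≤ 2 ^ (2 * m + 1) := Nat.pow_le_pow_right (by norm_num) (by omega)
      omega
    have h2 : Nontrivial Fˣ := Finite.one_lt_card_iff_nontrivial.1 h1
    exact exists_ne 1
  obtain ⟨S, hS⟩ : ∃ S : KFacts.TwF4.Full φ ↥(Lie.twistedF4 F (2 ^ m)), S.R.p = 2 :=
    ⟨Cfsg.Agent.KFacts.TwF4.Inst.full hK hφ, rfl⟩
  obtain ⟨V, W, h1, h2, h3, h4, h5⟩ := TwF4Opp.exists_pair S hF hS hp2 (A := A.map (MulAut.congr e).toMonoidHom)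
    (hA.map _) (t := e t) (by rw [MulEquiv.orderOf_eq, ht]) (by
      rintro _ ⟨α, hα, rfl⟩
      change e (α (e.symm (e t))) = e t
      rw [e.symm_apply_apply, hAt α hα])
  have key : ∀ (Z : Subgroup ↥(Lie.twistedF4 F (2 ^ m))), (∀ β ∈ A.map (MulAut.congr e).toMonoidHom,
      Z.map β.toMonoidHom = Z) → ∀ α ∈ A, (Z.map e.symm.toMonoidHom).map α.toMonoidHom = Z.map e.symm.toMonoidHom := by
    intro Z hZ α hα
    have h6 := hZ (MulAut.congr e α) ⟨α, hα, rfl⟩
    have h7 : (Z.map e.symm.toMonoidHom).map α.toMonoidHom =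
        (Z.map (MulAut.congr e α).toMonoidHom).map e.symm.toMonoidHom := by
      rw [Subgroup.map_map, Subgroup.map_map]
      congr 1
      ext y
      change α (e.symm y) = e.symm (e (α (e.symm y)))
      rw [e.symm_apply_apply]
    rw [h7, h6]
  refine ⟨V.map e.symm.toMonoidHom, W.map e.symm.toMonoidHom, h1.map _, h2.map _, key V h3, key W h4, ?_⟩
  rw [← Subgroup.map_sup, h5, ← MonoidHom.range_eq_map, MonoidHom.range_eq_top]
  exact e.symm.surjective

variable {G : Type u} [Group G] [Finite G] {p : ℕ} [hp : Fact p.Prime] {H L : Subgroup G}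

theorem row_2F4 (C : Cex p H L) (h : Lie.Iso2F4 ↥L) : False := by
  obtain ⟨t, ht, ht2, E, hE, hEH, hEt⟩ := C.exists_invol
  have hn := C.nrm
  have hEc := hE.1
  set E' : Subgroup (MulAut ↥L) := E.map (MulAut.conjNormal (H := L)) with hE'
  have hmapL : ∀ (e : G) (B : Subgroup ↥L), ((B.map (MulAut.conjNormal (H := L) e).toMonoidHom).map L.subtype) =
      cj e (B.map L.subtype) := by
    intro e B
    unfold cj
    rw [Subgroup.map_map, Subgroup.map_map]
    rfl
  obtain ⟨V, W, hV, hW, hVE, hWE, htop⟩ := exists_pair h C.odd (hE.isPGroup.map _) (A := E') (t := (⟨t, ht.2⟩ : ↥L))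
    (by rw [Subgroup.orderOf_mk, ht2]) (by
      rintro _ ⟨x, hx, rfl⟩
      apply Subtype.ext
      rw [MulAut.conjNormal_apply]
      have h1 := mem_centralizer_singleton_iff.1 (hEt hx)
      change x * t * x⁻¹ = t
      rw [h1, mul_inv_cancel_right])
  have key : ∀ Z : Subgroup ↥L, IsPGroup 2 Z → (∀ α ∈ E', Z.map α.toMonoidHom = Z) → Z.map L.subtype ≤ H := by
    intro Z hZ hZE
    refine H233.Rloc.inv_le C.normIn hEH hE.2.1 hE.2.2 ?_ fun e he => ?_
    · intro hd
      obtain ⟨m, hm⟩ := IsPGroup.iff_card.1 (hZ.map L.subtype)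
      rw [hm] at hd
      exact C.odd ((Nat.prime_dvd_prime_iff_eq hp.out Nat.prime_two).1 (hp.out.dvd_of_dvd_pow hd))
    · rw [mem_normalizer_iff_cj, ← hmapL, hZE _ ⟨e, he, rfl⟩]
  have h1 := sup_le (key V hV hVE) (key W hW hWE)
  rw [← Subgroup.map_sup, htop, ← MonoidHom.range_eq_map, Subgroup.range_subtype] at h1
  exact C.not_le h1

end Cfsg.Agent.H248.RowTwF4
end
end
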